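import Groth.Agent.QuasiSecLib.GoingDown
import Groth.Agent.DimFormulaLib.Misc

/-!
Choosing maps to affine space quasi-finite at a given point; vertical hypersurfaces; affine quasi-sections.
-/

set_option autoImplicit false
set_option linter.style.haveILetI false

universe u

open TensorProduct

namespace Groth.Agent.QuasiSecLib

open DimFormulaLib

variable {A B : Type u} [CommRing A] [CommRing B] [Algebra A B] [Algebra.FiniteType A B]

/-- A point both maximal and minimal in its fibre is quasi-finite. -/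
theorem qfAt_of_isolated (q : PrimeSpectrum B)
    (h1 : ∀ x : PrimeSpectrum B, PrimeSpectrum.comap (algebraMap A B) x = PrimeSpectrum.comap (algebraMap A B) q → x ≤ q → x = q)
    (h2 : ∀ x : PrimeSpectrum B, PrimeSpectrum.comap (algebraMap A B) x = PrimeSpectrum.comap (algebraMap A B) q → q ≤ x → x = q) :
    Algebra.QuasiFiniteAt A q.asIdeal := by
  classical
  let P := PrimeSpectrum.comap (algebraMap A B) q
  let e := PrimeSpectrum.preimageOrderIsoFiber A B P
  haveI : IsNoetherianRing (P.asIdeal.Fiber B) := Algebra.FiniteType.isNoetherianRing P.asIdeal.ResidueField _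
  let T : Set (PrimeSpectrum (P.asIdeal.Fiber B)) := {N | IsMin N ∧ (e.symm N).1 ≠ q}
  have hT : T.Finite :=
    ((minimalPrimes.finite_of_isNoetherianRing _).preimage
      (f := PrimeSpectrum.asIdeal) (fun a _ b _ hab => PrimeSpectrum.ext hab)).subset
      fun N hN => PrimeSpectrum.isMin_iff.1 hN.1
  have hsep : ∀ N ∈ T, ∃ g ∈ (e.symm N).1.asIdeal, g ∉ q.asIdeal := fun N hN =>
    SetLike.not_le_iff_exists.1 fun hle => hN.2 (h1 _ (e.symm N).2 hle)
  choose g hg hgq using hsep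
  let G : B := ∏ N ∈ hT.toFinset.attach, g N.1 (hT.mem_toFinset.1 N.2)
  refine Algebra.QuasiFiniteAt.of_isOpen_singleton_fiber q
    (isOpen_induced_iff.2 ⟨PrimeSpectrum.basicOpen G, (PrimeSpectrum.basicOpen G).isOpen, ?_⟩)
  ext ⟨x, hx⟩
  simp only [Set.mem_preimage, Set.mem_singleton_iff, SetLike.mem_coe, PrimeSpectrum.mem_basicOpen, Subtype.mk.injEq]
  constructor
  · intro hG
    obtain ⟨N, hN, hNx⟩ := Ideal.exists_minimalPrimes_le (I := (⊥ : Ideal (P.asIdeal.Fiber B))) (J := (e ⟨x, hx⟩).asIdeal) bot_le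
    let N' : PrimeSpectrum (P.asIdeal.Fiber B) := ⟨N, hN.1.1⟩
    have hle : e.symm N' ≤ ⟨x, hx⟩ := by
      rw [← e.symm_apply_apply ⟨x, hx⟩]
      exact e.symm.monotone hNx
    by_cases hq : (e.symm N').1 = q
    · exact h2 x hx (hq ▸ hle)
    · have hT' : N' ∈ T := ⟨PrimeSpectrum.isMin_iff.2 hN, hq⟩
      refine absurd (Ideal.mem_of_dvd _ (Finset.dvd_prod_of_mem _ (Finset.mem_attach _ ⟨N', hT.mem_toFinset.2 hT'⟩)) ?_) hG
      exact hle (hg N' hT')
  · rintro rfl h
    obtain ⟨N, -, hN⟩ := (x.isPrime.prod_mem_iff).1 h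
    exact hgq _ _ hN

theorem trdeg_bot_quotient {R C : Type u} [CommRing R] [CommRing C] [IsDomain R] [IsDomain C] [Algebra R C] [FaithfulSMul R C] {I : Ideal R} {J : Ideal C}
    [I.IsPrime] [J.IsPrime] [J.LiesOver I] (hI : I = ⊥) (hJ : J = ⊥) : Algebra.trdeg (R ⧸ I) (C ⧸ J) = Algebra.trdeg R C :=
  trdeg_eq_of_ringEquiv ((Ideal.quotEquivOfEq hI).trans (RingEquiv.quotientBot R))
    ((Ideal.quotEquivOfEq hJ).trans (RingEquiv.quotientBot C)) fun r => by
      obtain ⟨r, rfl⟩ := Ideal.Quotient.mk_surjective r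
      rfl

/-- A map to affine space of the generic dimension, quasi-finite at the generic point, is injective. -/
theorem injective_of_qf {A B : Type u} [CommRing A] [CommRing B] [IsDomain A] [IsDomain B] [Algebra A B]
    (hinj : Function.Injective (algebraMap A B)) {n : ℕ}
    (φ : MvPolynomial (Fin n) A →ₐ[A] B)
    (hqf : letI := φ.toRingHom.toAlgebra; Algebra.QuasiFiniteAt (MvPolynomial (Fin n) A) (⊥ : Ideal B))
    (htr : Algebra.trdeg A B = n) : Function.Injective φ := by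
  letI : Algebra (MvPolynomial (Fin n) A) B := φ.toRingHom.toAlgebra
  haveI : IsScalarTower A (MvPolynomial (Fin n) A) B := .of_algebraMap_eq fun a => (φ.commutes a).symm
  haveI := hqf
  haveI : FaithfulSMul A B := (faithfulSMul_iff_algebraMap_injective _ _).2 hinj
  let K : PrimeSpectrum (MvPolynomial (Fin n) A) := ⟨RingHom.ker φ.toRingHom, RingHom.ker_isPrime _⟩
  let O : PrimeSpectrum (MvPolynomial (Fin n) A) := ⟨⊥, Ideal.isPrime_bot⟩
  by_contra hφ
  have hlt : O < K := lt_of_le_of_ne (show O.asIdeal ≤ K.asIdeal from bot_le) fun he => hφ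
    ((RingHom.injective_iff_ker_eq_bot φ.toRingHom).2 (congrArg PrimeSpectrum.asIdeal he).symm)
  have hK : PrimeSpectrum.comap (algebraMap A (MvPolynomial (Fin n) A)) K = ⟨⊥, Ideal.isPrime_bot⟩ := by
    refine PrimeSpectrum.ext (eq_bot_iff.2 fun a ha => ?_)
    have : φ (algebraMap A _ a) = 0 := RingHom.mem_ker.1 ha
    rw [φ.commutes] at this
    exact hinj (this.trans (map_zero _).symm)
  have hO : PrimeSpectrum.comap (algebraMap A (MvPolynomial (Fin n) A)) O = ⟨⊥, Ideal.isPrime_bot⟩ :=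
    PrimeSpectrum.ext (Ideal.comap_bot_of_injective _ (MvPolynomial.C_injective _ _))
  haveI hOover : O.asIdeal.LiesOver (PrimeSpectrum.comap (algebraMap A (MvPolynomial (Fin n) A)) O).asIdeal := ⟨rfl⟩
  have htO : Algebra.trdeg (A ⧸ (PrimeSpectrum.comap (algebraMap A (MvPolynomial (Fin n) A)) O).asIdeal)
      (MvPolynomial (Fin n) A ⧸ O.asIdeal) = (n : Cardinal.{u}) := by
    rw [trdeg_bot_quotient (congrArg PrimeSpectrum.asIdeal hO) rfl, MvPolynomial.trdeg_of_isDomain, Cardinal.mk_fin,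
      Cardinal.lift_natCast]
  let P' : Ideal (MvPolynomial (Fin n) A) := (⊥ : Ideal B).under _
  have hP' : P' = K.asIdeal := rfl
  haveI : (⊥ : Ideal B).LiesOver P' := ⟨rfl⟩
  let p₀ := (PrimeSpectrum.comap (algebraMap A (MvPolynomial (Fin n) A)) K).asIdeal
  haveI : P'.LiesOver p₀ := ⟨rfl⟩
  haveI : (⊥ : Ideal B).LiesOver p₀ := Ideal.LiesOver.trans _ P' p₀
  haveI : IsScalarTower (A ⧸ p₀) (MvPolynomial (Fin n) A ⧸ P') (B ⧸ (⊥ : Ideal B)) :=
    IsScalarTower.of_algebraMap_eq fun a => by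
      obtain ⟨a, rfl⟩ := Ideal.Quotient.mk_surjective a
      exact congrArg (Ideal.Quotient.mk (⊥ : Ideal B)) (φ.commutes a).symm
  haveI : FaithfulSMul (A ⧸ p₀) (MvPolynomial (Fin n) A ⧸ P') :=
    (faithfulSMul_iff_algebraMap_injective _ _).2 Ideal.algebraMap_quotient_injective
  haveI : FaithfulSMul (MvPolynomial (Fin n) A ⧸ P') (B ⧸ (⊥ : Ideal B)) :=
    (faithfulSMul_iff_algebraMap_injective _ _).2 Ideal.algebraMap_quotient_injective
  have htK : Algebra.trdeg (A ⧸ p₀) (MvPolynomial (Fin n) A ⧸ P') = (n : Cardinal.{u}) := by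
    have h := trdeg_add_eq (A ⧸ p₀) (MvPolynomial (Fin n) A ⧸ P') (A := B ⧸ (⊥ : Ideal B))
    rw [isAlgebraic_of_quasiFiniteAt (A := MvPolynomial (Fin n) A) (⊥ : Ideal B), add_zero,
      trdeg_bot_quotient (congrArg PrimeSpectrum.asIdeal hK) rfl, htr] at h
    exact h
  exact lt_irrefl n (trdeg_lt_of_lt_in_fibre' hlt (hO.trans hK.symm) n n htO htK)

/-- Generalize into the generic fibre along a coordinate subspace, for a base with a least prime. -/
theorem exists_generization_of_least (P₀ q : Ideal B) [P₀.IsPrime] [q.IsPrime] (hle : P₀ ≤ q) {n : ℕ}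
    (φ : MvPolynomial (Fin n) A →ₐ[A] B)
    (hqf : letI := φ.toRingHom.toAlgebra; Algebra.QuasiFiniteAt (MvPolynomial (Fin n) A) q)
    (htr : Algebra.trdeg (A ⧸ P₀.under A) (B ⧸ P₀) = n) (s : Set (Fin n)) (hs : ∀ i ∈ s, φ (MvPolynomial.X i) ∈ q) :
    ∃ q' : Ideal B, q'.IsPrime ∧ P₀ ≤ q' ∧ q' ≤ q ∧ q'.under A = P₀.under A ∧ ∀ i ∈ s, φ (MvPolynomial.X i) ∈ q' := by
  let p₀ := P₀.under A
  haveI : P₀.LiesOver p₀ := ⟨rfl⟩
  let φb : MvPolynomial (Fin n) (A ⧸ p₀) →ₐ[A ⧸ p₀] (B ⧸ P₀) :=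
    MvPolynomial.aeval fun i => Ideal.Quotient.mk P₀ (φ (MvPolynomial.X i))
  haveI : IsDomain (A ⧸ p₀) := inferInstance
  haveI : Algebra.FiniteType (A ⧸ p₀) (B ⧸ P₀) := Algebra.FiniteType.of_restrictScalars_finiteType A _ _
  let qb := q.map (Ideal.Quotient.mk P₀)
  haveI : qb.IsPrime := Ideal.map_isPrime_of_surjective Ideal.Quotient.mk_surjective (by rwa [Ideal.mk_ker])
  have hqb : qb.comap (Ideal.Quotient.mk P₀) = q := by
    rw [Ideal.comap_map_of_surjective _ Ideal.Quotient.mk_surjective, ← RingHom.ker_eq_comap_bot, Ideal.mk_ker, sup_eq_left.2 hle]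
  let μ : MvPolynomial (Fin n) A →+* MvPolynomial (Fin n) (A ⧸ p₀) := MvPolynomial.map (Ideal.Quotient.mk p₀)
  have hμ : φb.toRingHom.comp μ = (Ideal.Quotient.mk P₀).comp φ.toRingHom := by
    refine MvPolynomial.ringHom_ext (fun a => ?_) fun i => ?_
    · show φb (μ (MvPolynomial.C a)) = Ideal.Quotient.mk P₀ (φ (MvPolynomial.C a))
      rw [show μ (MvPolynomial.C a) = MvPolynomial.C (Ideal.Quotient.mk p₀ a) from MvPolynomial.map_C _ _,
        MvPolynomial.aeval_C, show φ (MvPolynomial.C a) = algebraMap A B a from φ.commutes a]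
      rfl
    · show φb (μ (MvPolynomial.X i)) = Ideal.Quotient.mk P₀ (φ (MvPolynomial.X i))
      rw [show μ (MvPolynomial.X i) = MvPolynomial.X i from MvPolynomial.map_X _ _, MvPolynomial.aeval_X]
  have hqfb : letI := φb.toRingHom.toAlgebra; Algebra.QuasiFiniteAt (MvPolynomial (Fin n) (A ⧸ p₀)) qb := by
    letI := φ.toRingHom.toAlgebra
    haveI := hqf
    letI := φb.toRingHom.toAlgebra
    letI : Algebra (MvPolynomial (Fin n) A) (MvPolynomial (Fin n) (A ⧸ p₀)) := μ.toAlgebra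
    haveI : IsScalarTower (MvPolynomial (Fin n) A) (MvPolynomial (Fin n) (A ⧸ p₀)) (B ⧸ P₀) := .of_algebraMap_eq' hμ.symm
    haveI : Algebra.QuasiFiniteAt (MvPolynomial (Fin n) A) qb :=
      .of_surjectiveOnStalks q (Ideal.Quotient.mkₐ _ P₀) (RingHom.surjectiveOnStalks_of_surjective Ideal.Quotient.mk_surjective) qb hqb.symm
    exact Algebra.QuasiFinite.of_restrictScalars (MvPolynomial (Fin n) A) (MvPolynomial (Fin n) (A ⧸ p₀)) _
  have hinjb : Function.Injective (algebraMap (A ⧸ p₀) (B ⧸ P₀)) := Ideal.algebraMap_quotient_injective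
  have hφb : Function.Injective φb := by
    refine injective_of_qf hinjb φb ?_ htr
    letI := φb.toRingHom.toAlgebra
    haveI := hqfb
    exact Algebra.QuasiFiniteAt.of_le (P := (⊥ : Ideal (B ⧸ P₀))) (Q := qb) bot_le
  obtain ⟨q₁, hq₁, hle₁, hbot, hX⟩ := exists_generization φb hφb qb hqfb s fun i hi => by
    rw [MvPolynomial.aeval_X]
    exact Ideal.mem_map_of_mem _ (hs i hi)
  refine ⟨q₁.comap (Ideal.Quotient.mk P₀), Ideal.IsPrime.comap _, fun z hz => ?_, hqb ▸ Ideal.comap_mono hle₁, ?_, fun i hi => ?_⟩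
  · rw [Ideal.mem_comap, Ideal.Quotient.eq_zero_iff_mem.2 hz]
    exact zero_mem _
  · ext a
    show algebraMap (A ⧸ p₀) (B ⧸ P₀) (Ideal.Quotient.mk p₀ a) ∈ q₁ ↔ a ∈ p₀
    rw [← Ideal.mem_comap, hbot, Ideal.mem_bot, Ideal.Quotient.eq_zero_iff_mem]
  · have h := hX i hi
    rw [MvPolynomial.aeval_X] at h
    exact h

/-- A hypersurface missing the generic fibre is a union of components of a fibre of no larger dimension. -/
theorem vertical (P₀ : PrimeSpectrum B) (d : ℕ)
    (htr : Algebra.trdeg (A ⧸ (PrimeSpectrum.comap (algebraMap A B) P₀).asIdeal) (B ⧸ P₀.asIdeal) = d)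
    (g : B) (hgen : ∀ P : PrimeSpectrum B, P₀ ≤ P →
      PrimeSpectrum.comap (algebraMap A B) P = PrimeSpectrum.comap (algebraMap A B) P₀ → g ∉ P.asIdeal)
    (q : PrimeSpectrum B) (h0 : P₀ ≤ q) (hg : g ∈ q.asIdeal)
    (hmin : ∀ x : PrimeSpectrum B, PrimeSpectrum.comap (algebraMap A B) x = PrimeSpectrum.comap (algebraMap A B) q →
      x ≤ q → g ∈ x.asIdeal → x = q)
    (hdim : ∀ (x : PrimeSpectrum B) (t : ℕ), PrimeSpectrum.comap (algebraMap A B) x = PrimeSpectrum.comap (algebraMap A B) q →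
      Algebra.trdeg (A ⧸ (PrimeSpectrum.comap (algebraMap A B) x).asIdeal) (B ⧸ x.asIdeal) = t → t ≤ d)
    (x : PrimeSpectrum B) (hx : x ≤ q) (hxp : PrimeSpectrum.comap (algebraMap A B) x = PrimeSpectrum.comap (algebraMap A B) q) :
    x = q := by
  classical
  by_contra hne
  let p := PrimeSpectrum.comap (algebraMap A B) q
  haveI : q.asIdeal.LiesOver p.asIdeal := ⟨rfl⟩
  obtain ⟨tx, htx⟩ := exists_nat_trdeg_quotient_pair (A := A) x
  obtain ⟨e, he⟩ := exists_nat_trdeg_quotient_pair (A := A) q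
  have hlt := trdeg_lt_of_lt_in_fibre' (lt_of_le_of_ne hx hne) hxp tx e htx he
  have htxd := hdim x tx hxp htx
  haveI : FaithfulSMul (A ⧸ p.asIdeal) (B ⧸ q.asIdeal) :=
    (faithfulSMul_iff_algebraMap_injective _ _).2 Ideal.algebraMap_quotient_injective
  obtain ⟨S, hS⟩ := exists_isTranscendenceBasis (A ⧸ p.asIdeal) (B ⧸ q.asIdeal)
  have hcard : Cardinal.mk S = (e : Cardinal.{u}) := hS.cardinalMk_eq_trdeg.trans he
  obtain ⟨σ⟩ : Nonempty (Fin e ≃ S) := by
    have h' : Cardinal.mk S = Cardinal.mk (ULift.{u} (Fin e)) := by rw [hcard, Cardinal.mk_uLift, Cardinal.mk_fin, Cardinal.lift_natCast]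
    obtain ⟨σ⟩ := Cardinal.eq.1 h'
    exact ⟨Equiv.ulift.symm.trans σ.symm⟩
  choose b hb using fun i => Ideal.Quotient.mk_surjective ((σ i).1 : B ⧸ q.asIdeal)
  have hind : AlgebraicIndependent (A ⧸ p.asIdeal) fun i => (σ i).1 := hS.1.comp σ σ.injective
  let φ : MvPolynomial (Fin (e + 1)) A →ₐ[A] B := MvPolynomial.aeval (Fin.snoc b g)
  have hlast : φ (MvPolynomial.X (Fin.last e)) = g := by rw [MvPolynomial.aeval_X, Fin.snoc_last]
  have hcast : ∀ F : MvPolynomial (Fin e) A, φ (MvPolynomial.rename Fin.castSucc F) = MvPolynomial.aeval b F := fun F => by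
    show MvPolynomial.aeval (Fin.snoc b g) (MvPolynomial.rename Fin.castSucc F) = _
    rw [MvPolynomial.aeval_rename]
    congr 2
    exact funext fun i => Fin.snoc_castSucc _ _ _
  letI := φ.toRingHom.toAlgebra
  haveI : IsScalarTower A (MvPolynomial (Fin (e + 1)) A) B := .of_algebraMap_eq fun a => (φ.commutes a).symm
  haveI : Algebra.FiniteType (MvPolynomial (Fin (e + 1)) A) B := Algebra.FiniteType.of_restrictScalars_finiteType A _ _
  have hqf : Algebra.QuasiFiniteAt (MvPolynomial (Fin (e + 1)) A) q.asIdeal := by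
    have hover : ∀ z : PrimeSpectrum B, PrimeSpectrum.comap (algebraMap (MvPolynomial (Fin (e + 1)) A) B) z =
        PrimeSpectrum.comap (algebraMap (MvPolynomial (Fin (e + 1)) A) B) q →
        PrimeSpectrum.comap (algebraMap A B) z = p ∧ ∀ F, φ F ∈ z.asIdeal ↔ φ F ∈ q.asIdeal := fun z hz => by
      have hF : ∀ F, φ F ∈ z.asIdeal ↔ φ F ∈ q.asIdeal := fun F => SetLike.ext_iff.1 (congrArg PrimeSpectrum.asIdeal hz) F
      refine ⟨PrimeSpectrum.ext (Ideal.ext fun a => ?_), hF⟩
      show algebraMap A B a ∈ z.asIdeal ↔ algebraMap A B a ∈ q.asIdeal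
      rw [← φ.commutes]
      exact hF _
    refine qfAt_of_isolated q (fun z hz hzq => ?_) fun z hz hqz => ?_
    · obtain ⟨hzp, hF⟩ := hover z hz
      exact hmin z hzp hzq (hlast ▸ (hF _).2 (hlast.symm ▸ hg))
    · obtain ⟨hzp, hF⟩ := hover z hz
      by_contra hne'
      obtain ⟨tz, htz⟩ := exists_nat_trdeg_quotient_pair (A := A) z
      have hlt' := trdeg_lt_of_lt_in_fibre' (lt_of_le_of_ne hqz (Ne.symm hne')) hzp.symm e tz he htz
      haveI : z.asIdeal.LiesOver p.asIdeal := ⟨(congrArg PrimeSpectrum.asIdeal hzp).symm⟩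
      have hind' : AlgebraicIndependent (A ⧸ p.asIdeal) fun i => Ideal.Quotient.mk z.asIdeal (b i) := by
        rw [algebraicIndependent_iff]
        intro F hF0
        obtain ⟨F, rfl⟩ := MvPolynomial.map_surjective (Ideal.Quotient.mk p.asIdeal) Ideal.Quotient.mk_surjective F
        have key : ∀ (w : PrimeSpectrum B) (_ : w.asIdeal.LiesOver p.asIdeal),
            MvPolynomial.aeval (fun i => Ideal.Quotient.mk w.asIdeal (b i)) (MvPolynomial.map (Ideal.Quotient.mk p.asIdeal) F) =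
              Ideal.Quotient.mk w.asIdeal (MvPolynomial.aeval b F) := fun w _ => by
          rw [show Ideal.Quotient.mk p.asIdeal = algebraMap A (A ⧸ p.asIdeal) from rfl, MvPolynomial.aeval_map_algebraMap]
          exact (MvPolynomial.comp_aeval_apply (φ := Ideal.Quotient.mkₐ A w.asIdeal) b F).symm
        rw [key z inferInstance, Ideal.Quotient.eq_zero_iff_mem, ← hcast] at hF0
        have h' := (hF _).1 hF0
        rw [hcast, ← Ideal.Quotient.eq_zero_iff_mem, ← key q inferInstance] at h'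
        simp only [hb] at h'
        exact algebraicIndependent_iff.1 hind _ h'
      have hc := hind'.lift_cardinalMk_le_trdeg
      have htz' : Algebra.trdeg (A ⧸ p.asIdeal) (B ⧸ z.asIdeal) = tz :=
        (exists_fibre_component.trdeg_quotient_congr hzp).symm.trans htz
      rw [htz', Cardinal.mk_fin, Cardinal.lift_natCast, Cardinal.lift_natCast] at hc
      have : e ≤ tz := by exact_mod_cast hc
      omega
  haveI := hqf
  have hdle : d ≤ e + 1 := by
    have hP0 : Algebra.QuasiFiniteAt (MvPolynomial (Fin (e + 1)) A) P₀.asIdeal :=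
      Algebra.QuasiFiniteAt.of_le (Q := q.asIdeal) h0
    have h1 := trdeg_le_of_quasiFiniteAt (e + 1) φ P₀.asIdeal hP0
    have h2 : (d : Cardinal.{u}) ≤ ((e + 1 : ℕ) : Cardinal.{u}) := htr ▸ h1
    exact_mod_cast h2
  have hde : d = e + 1 := by omega
  obtain ⟨q', hq', hP0q', -, hover', hmem⟩ := exists_generization_of_least P₀.asIdeal q.asIdeal h0 φ hqf
    (by rw [← hde]; exact htr) {Fin.last e} (fun i hi => by rw [Set.mem_singleton_iff.1 hi, hlast]; exact hg)
  exact hgen ⟨q', hq'⟩ hP0q' (PrimeSpectrum.ext hover') (hlast ▸ hmem _ rfl)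

/-- An affine quasi-section through a point closed in its fibre. -/
theorem exists_quasi_section (P₀ q : PrimeSpectrum B) (h0 : P₀ ≤ q) (e : ℕ)
    (htr : Algebra.trdeg (A ⧸ (PrimeSpectrum.comap (algebraMap A B) P₀).asIdeal) (B ⧸ P₀.asIdeal) = e)
    (hmax : ∀ x : PrimeSpectrum B, PrimeSpectrum.comap (algebraMap A B) x = PrimeSpectrum.comap (algebraMap A B) q → q ≤ x → x = q)
    (hdim : ∀ (x : PrimeSpectrum B) (t : ℕ), PrimeSpectrum.comap (algebraMap A B) x = PrimeSpectrum.comap (algebraMap A B) q → x ≤ q →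
      Algebra.trdeg (A ⧸ (PrimeSpectrum.comap (algebraMap A B) x).asIdeal) (B ⧸ x.asIdeal) = t → t ≤ e) :
    ∃ (q' : PrimeSpectrum B) (g : B), P₀ ≤ q' ∧ q' ≤ q ∧ g ∉ q.asIdeal ∧
      PrimeSpectrum.comap (algebraMap A B) q' = PrimeSpectrum.comap (algebraMap A B) P₀ ∧
      Algebra.QuasiFinite A (Localization.Away (Ideal.Quotient.mk q'.asIdeal g)) := by
  classical
  let p := PrimeSpectrum.comap (algebraMap A B) q
  haveI : q.asIdeal.LiesOver p.asIdeal := ⟨rfl⟩
  let F := p.asIdeal.Fiber B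
  let ι : B →ₐ[A] F := Algebra.TensorProduct.includeRight
  haveI : IsNoetherianRing F := Algebra.FiniteType.isNoetherianRing p.asIdeal.ResidueField F
  let o := PrimeSpectrum.preimageOrderIsoFiber A B p
  let Q : PrimeSpectrum F := o ⟨q, rfl⟩
  have hback : ∀ z, (o z).asIdeal.comap ι.toRingHom = z.1.asIdeal := fun z =>
    congrArg (fun w => w.1.asIdeal) (o.symm_apply_apply z)
  obtain ⟨N, hN, hNQ, hNe⟩ := exists_isMin_relHeight_eq_height Q
  obtain ⟨m, hm⟩ := exists_nat_trdeg_quotient p.asIdeal.ResidueField F N.asIdeal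
  obtain ⟨r, hr⟩ := exists_nat_trdeg_quotient p.asIdeal.ResidueField F Q.asIdeal
  obtain ⟨a, ha, hma⟩ := trdeg_eq_relHeight_add p.asIdeal.ResidueField F hNQ m r hm hr
  have hme : m ≤ e := by
    let x := o.symm N
    haveI : x.1.asIdeal.LiesOver p.asIdeal := ⟨(congrArg PrimeSpectrum.asIdeal x.2).symm⟩
    refine hdim x.1 m x.2 ?_ ?_
    · have h : x ≤ ⟨q, rfl⟩ := by rw [← o.symm_apply_apply ⟨q, rfl⟩]; exact o.symm.monotone hNQ
      exact h
    · refine (exists_fibre_component.trdeg_quotient_congr x.2).trans ?_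
      rw [← trdeg_fibre p.asIdeal x.1.asIdeal N.asIdeal (by rw [← hback x, o.apply_symm_apply]), hm]
  obtain ⟨S, hS, hcard⟩ := Ideal.exists_finset_card_eq_height_of_isNoetherianRing Q.asIdeal
  have hSe : S.card ≤ e := by
    rw [← hNe, ha] at hcard
    have : S.card = a := by exact_mod_cast hcard
    omega
  choose c hc b hb using fun z : F => Ideal.Fiber.exists_smul_eq_one_tmul p.asIdeal z
  have hunit : ∀ r ∉ p.asIdeal, IsUnit (algebraMap A F r) := fun r hr => by
    rw [IsScalarTower.algebraMap_apply A p.asIdeal.ResidueField F]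
    exact (Ne.isUnit (fun h => hr (Ideal.algebraMap_residueField_eq_zero.1 h))).map _
  have hscale : ∀ (z : F) (J : Ideal F), ι (b z) ∈ J ↔ z ∈ J := fun z J => by
    rw [show ι (b z) = algebraMap A F (c z) * z from (by rw [← Algebra.smul_def, hb]; rfl),
      Ideal.unit_mul_mem_iff_mem J (hunit _ (hc z))]
  let σ : Fin e → B := fun i => if h : i.1 < S.card then b (S.equivFin.symm ⟨i.1, h⟩ : F) else 0
  have hσq : ∀ i, σ i ∈ q.asIdeal := fun i => by
    by_cases h : i.1 < S.card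
    · simp only [σ, dif_pos h]
      rw [← hback ⟨q, rfl⟩]
      exact (hscale _ _).2 (hS.1.2 (Ideal.subset_span (S.equivFin.symm ⟨i.1, h⟩).2))
    · simp only [σ, dif_neg h]
      exact zero_mem _
  let φ : MvPolynomial (Fin e) A →ₐ[A] B := MvPolynomial.aeval σ
  letI := φ.toRingHom.toAlgebra
  haveI : IsScalarTower A (MvPolynomial (Fin e) A) B := .of_algebraMap_eq fun a => (φ.commutes a).symm
  haveI : Algebra.FiniteType (MvPolynomial (Fin e) A) B := Algebra.FiniteType.of_restrictScalars_finiteType A _ _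
  haveI hqf : Algebra.QuasiFiniteAt (MvPolynomial (Fin e) A) q.asIdeal := by
    have hover : ∀ z : PrimeSpectrum B, PrimeSpectrum.comap (algebraMap (MvPolynomial (Fin e) A) B) z =
        PrimeSpectrum.comap (algebraMap (MvPolynomial (Fin e) A) B) q →
        PrimeSpectrum.comap (algebraMap A B) z = p ∧ ∀ i, σ i ∈ z.asIdeal := fun z hz => by
      have hF : ∀ F, φ F ∈ z.asIdeal ↔ φ F ∈ q.asIdeal := fun F => SetLike.ext_iff.1 (congrArg PrimeSpectrum.asIdeal hz) F
      refine ⟨PrimeSpectrum.ext (Ideal.ext fun a => ?_), fun i => ?_⟩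
      · show algebraMap A B a ∈ z.asIdeal ↔ algebraMap A B a ∈ q.asIdeal
        rw [← φ.commutes]
        exact hF _
      · have h := (hF (MvPolynomial.X i)).2 (by rw [MvPolynomial.aeval_X]; exact hσq i)
        rwa [MvPolynomial.aeval_X] at h
    refine qfAt_of_isolated q (fun z hz hzq => ?_) fun z hz hqz => hmax z (hover z hz).1 hqz
    obtain ⟨hzp, hσz⟩ := hover z hz
    have hle : o ⟨z, hzp⟩ ≤ Q := o.monotone hzq
    have hsub : Ideal.span (S : Set F) ≤ (o ⟨z, hzp⟩).asIdeal := Ideal.span_le.2 fun y hy => by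
      refine (hscale y _).1 (Ideal.mem_comap.1 ((hback ⟨z, hzp⟩).ge ?_))
      have hlt := (S.equivFin ⟨y, hy⟩).2
      have h := hσz ⟨(S.equivFin ⟨y, hy⟩).1, lt_of_lt_of_le hlt hSe⟩
      simpa only [σ, dif_pos hlt, Fin.eta, Equiv.symm_apply_apply] using h
    have heq : o ⟨z, hzp⟩ = Q := le_antisymm hle (hS.2 ⟨(o ⟨z, hzp⟩).isPrime, hsub⟩ hle)
    exact congrArg Subtype.val (o.injective heq)
  obtain ⟨q', hq', hP₀q', hq'q, hover', hmem⟩ := exists_generization_of_least P₀.asIdeal q.asIdeal h0 φ hqf htr Set.univ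
    fun i _ => by rw [MvPolynomial.aeval_X]; exact hσq i
  haveI := hq'
  obtain ⟨S', hS', g, hg, hbij⟩ :=
    Algebra.QuasiFiniteAt.exists_fg_and_exists_notMem_and_awayMap_bijective (R := MvPolynomial (Fin e) A) q.asIdeal
  haveI : Module.Finite (MvPolynomial (Fin e) A) S' := ⟨(Submodule.fg_top _).mpr hS'⟩
  haveI : Algebra.QuasiFinite (MvPolynomial (Fin e) A) (Localization.Away g) := .trans _ S' _
  haveI : Algebra.QuasiFinite (MvPolynomial (Fin e) A) (Localization.Away g.1) :=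
    Algebra.QuasiFinite.of_surjective_algHom (R := MvPolynomial (Fin e) A) (S := Localization.Away g)
      (T := Localization.Away g.1) (Localization.awayMapₐ S'.val g) hbij.2
  refine ⟨⟨q', hq'⟩, g.1, hP₀q', hq'q, hg, PrimeSpectrum.ext hover', ?_⟩
  haveI : Algebra.QuasiFinite (MvPolynomial (Fin e) A) (Localization.Away (Ideal.Quotient.mk q' g.1)) := by
    refine Algebra.QuasiFinite.of_surjective_algHom (R := MvPolynomial (Fin e) A)
      (S := Localization.Away g.1) (Localization.awayMapₐ (Ideal.Quotient.mkₐ (MvPolynomial (Fin e) A) q') g.1) ?_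
    refine Localization.awayMap_surjective_iff.2 fun z => ?_
    obtain ⟨z, rfl⟩ := Ideal.Quotient.mk_surjective z
    exact ⟨z, 0, by rw [pow_zero, one_mul]; rfl⟩
  letI : Algebra (MvPolynomial (Fin e) A) A := (MvPolynomial.constantCoeff (σ := Fin e) (R := A)).toAlgebra
  haveI : IsScalarTower (MvPolynomial (Fin e) A) A (Localization.Away (Ideal.Quotient.mk q' g.1)) := .of_algebraMap_eq' <| by
    refine MvPolynomial.ringHom_ext (fun a => ?_) fun i => ?_
    · show algebraMap (MvPolynomial (Fin e) A) (Localization.Away (Ideal.Quotient.mk q' g.1)) (MvPolynomial.C a) =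
        algebraMap A _ (MvPolynomial.constantCoeff (MvPolynomial.C a))
      rw [MvPolynomial.constantCoeff_C, ← MvPolynomial.algebraMap_eq, ← IsScalarTower.algebraMap_apply]
    · show algebraMap (MvPolynomial (Fin e) A) (Localization.Away (Ideal.Quotient.mk q' g.1)) (MvPolynomial.X i) =
        algebraMap A _ (MvPolynomial.constantCoeff (MvPolynomial.X i))
      rw [MvPolynomial.constantCoeff_X, map_zero,
        IsScalarTower.algebraMap_apply (MvPolynomial (Fin e) A) (B ⧸ q') (Localization.Away (Ideal.Quotient.mk q' g.1)),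
        show algebraMap (MvPolynomial (Fin e) A) (B ⧸ q') (MvPolynomial.X i) = 0 from
          Ideal.Quotient.eq_zero_iff_mem.2 (hmem i (Set.mem_univ _)), map_zero]
  exact Algebra.QuasiFinite.of_restrictScalars (MvPolynomial (Fin e) A) A _

end Groth.Agent.QuasiSecLib
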