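import Groth.Agent.EtaleSplit.Nbhd
import Groth.Agent.UnivOpenAtLib.Basic
import Groth.Agent.ASp.EtLocal
/-!
A quasi-finite morphism universally open at a point is finite surjective over an étale neighbourhood.
-/

set_option autoImplicit false
set_option backward.isDefEq.respectTransparency false
set_option backward.isDefEq.respectTransparency.types false
set_option linter.style.haveILetI false

universe u

open CategoryTheory CategoryTheory.Limits AlgebraicGeometry TopologicalSpace

noncomputable section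

namespace Groth.Agent.QuasiSecLib

theorem isIso_residueFieldMap_of_section {T S : Scheme.{u}} (g : T ⟶ S) (s : S)
    (σ : Spec (S.residueField s) ⟶ T) (hσ : σ ≫ g = S.fromSpecResidueField s) (t : T)
    (ht : σ (IsLocalRing.closedPoint _) = t) : IsIso (g.residueFieldMap t) := by
  subst ht
  exact (ConcreteCategory.isIso_iff_bijective _).2 (EtaleSplit.residue_bijective_of_section g s σ hσ).2

theorem isIso_residueFieldMap_comp {X Y Z : Scheme.{u}} (f : X ⟶ Y) (g : Y ⟶ Z) (x : X)
    (hf : IsIso (f.residueFieldMap x)) (hg : IsIso (g.residueFieldMap (f x))) :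
    IsIso ((f ≫ g).residueFieldMap x) := by
  rw [Scheme.residueFieldMap_comp]
  haveI := hf
  haveI := hg
  infer_instance

/-- A quasi-finite morphism universally open at `p` becomes, over an affine étale neighbourhood of the image,
finite surjective near a point above `p` with the same residue field. -/
theorem exists_etale_finite_surjective {P S : Scheme.{u}} (f : P ⟶ S) [LocallyOfFinitePresentation f]
    (p : P) (hp : f.QuasiFiniteAt p) (ho : EGA43.IsUnivOpenAt f p) :
    ∃ (S' S'' : Scheme.{u}) (_ : IsAffine S') (w : S' ⟶ S) (π : S'' ⟶ S') (h : S'' ⟶ P),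
      Etale w ∧ IsFinite π ∧ Surjective π ∧ LocallyOfFinitePresentation π ∧ h ≫ f = π ≫ w ∧
      ∃ s'' : S'', (π ≫ w).base ⁻¹' {f p} = {s''} ∧ h.base s'' = p ∧ IsIso (h.residueFieldMap s'') := by
  obtain ⟨T, g, σ, hσ, V, hg, hfin, ⟨v, hvV, hv1, hv2⟩, hV⟩ := EtaleSplit.exists_nbhd_finite_part f p hp
  let t : T := σ (IsLocalRing.closedPoint _)
  change pullback.snd f g v = t at hv2
  change ∀ w, w ∈ V → pullback.snd f g w = t → pullback.fst f g w = p at hV
  obtain ⟨hgt, hgbij⟩ := EtaleSplit.residue_bijective_of_section g (f p) σ hσ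
  change g t = f p at hgt
  change Function.Bijective (g.residueFieldMap t) at hgbij
  haveI := hg
  haveI : LocallyQuasiFinite g := ASp.IsEtLocal.etale_le (P := @LocallyQuasiFinite) g hg
  -- only `t` lies over the image near `t`
  obtain ⟨O, hO, hOs⟩ : ∃ O : Set T, IsOpen O ∧ O ∩ g ⁻¹' {f p} = {t} := by
    have h := g.isDiscrete_preimage_singleton (f p)
    rw [isDiscrete_iff_discreteTopology] at h
    obtain ⟨O, hO, hO'⟩ := isOpen_induced_iff.1 (isOpen_discrete ({⟨t, hgt⟩} : Set ↥(g ⁻¹' {f p})))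
    refine ⟨O, hO, Set.ext fun a => ⟨fun ⟨ha, has⟩ => ?_, fun ha => ?_⟩⟩
    · have := hO'.subset (show (⟨a, has⟩ : ↥(g ⁻¹' {f p})) ∈ Subtype.val ⁻¹' O from ha)
      exact congrArg Subtype.val this
    · cases ha
      exact ⟨hO'.superset (Set.mem_singleton _), hgt⟩
  have himg : (pullback.snd f g) '' (V : Set ↥(pullback f g)) ∈ nhds t :=
    hv2 ▸ ho T g v hv1 _ (V.2.mem_nhds hvV)
  have hOt : t ∈ O := (hOs.superset rfl).1
  obtain ⟨N, hN, hNo, htN⟩ := mem_nhds_iff.1 (Filter.inter_mem himg (hO.mem_nhds hOt))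
  obtain ⟨_, ⟨W₀, hW, rfl⟩, htW, hWN⟩ := T.isBasis_affineOpens.exists_subset_of_mem_open htN hNo
  let W : T.Opens := W₀
  let Φ : V.toScheme ⟶ T := V.ι ≫ pullback.snd f g
  haveI : IsFinite Φ := hfin
  haveI : LocallyOfFinitePresentation (pullback.snd f g) := inferInstance
  haveI : LocallyOfFinitePresentation Φ := inferInstanceAs (LocallyOfFinitePresentation (V.ι ≫ pullback.snd f g))
  haveI : IsFinite (Φ ∣_ W) := MorphismProperty.of_isPullback (isPullback_morphismRestrict Φ W).flip ‹_›
  haveI : LocallyOfFinitePresentation (Φ ∣_ W) :=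
    MorphismProperty.of_isPullback (isPullback_morphismRestrict Φ W).flip ‹_›
  let h : (Φ ⁻¹ᵁ W).toScheme ⟶ P := (Φ ⁻¹ᵁ W).ι ≫ V.ι ≫ pullback.fst f g
  have hvW : (⟨v, hvV⟩ : V.toScheme) ∈ Φ ⁻¹ᵁ W := by
    show pullback.snd f g v ∈ W
    rw [hv2]; exact htW
  let s'' : (Φ ⁻¹ᵁ W).toScheme := ⟨⟨v, hvV⟩, hvW⟩
  refine ⟨W.toScheme, (Φ ⁻¹ᵁ W).toScheme, hW, W.ι ≫ g, Φ ∣_ W, h, inferInstance, inferInstance, ?_,
    inferInstance, ?_, s'', ?_, hv1, ?_⟩
  · refine ⟨fun ⟨a, ha⟩ => ?_⟩
    obtain ⟨b, hb, rfl⟩ := (hN (hWN ha)).1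
    exact ⟨⟨⟨b, hb⟩, ha⟩, Subtype.ext (morphismRestrict_base_coe Φ W _)⟩
  · rw [← Category.assoc (Φ ∣_ W), morphismRestrict_ι]
    simp only [h, Φ, Category.assoc, pullback.condition]
  · let σ' : Spec (P.residueField p) ⟶ pullback f g := pullback.lift (P.fromSpecResidueField p)
      (Spec.map (f.residueFieldMap p) ≫ σ)
      (by rw [Category.assoc, hσ, Scheme.Hom.SpecMap_residueFieldMap_fromSpecResidueField])
    have hσ'1 : σ' ≫ pullback.fst f g = P.fromSpecResidueField p := pullback.lift_fst _ _ _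
    have hσ't : pullback.snd f g (σ' (IsLocalRing.closedPoint _)) = t := by
      rw [← Scheme.Hom.comp_apply, pullback.lift_snd, Scheme.Hom.comp_apply]
      exact congrArg σ (Subsingleton.elim _ _)
    have hv' : v = σ' (IsLocalRing.closedPoint _) :=
      EtaleSplit.eq_of_section f g p t hgbij σ' hσ'1 hσ't v hv1 hv2
    ext a
    have hcomp : (Φ ∣_ W ≫ W.ι ≫ g) a = g (pullback.snd f g a.1.1) := by
      rw [morphismRestrict_ι_assoc]; rfl
    simp only [Set.mem_preimage, Set.mem_singleton_iff]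
    constructor
    · intro ha
      change (Φ ∣_ W ≫ W.ι ≫ g) a = f p at ha
      rw [hcomp] at ha
      have hat : pullback.snd f g a.1.1 = t := by
        have hm : pullback.snd f g a.1.1 ∈ O ∩ g ⁻¹' {f p} := ⟨(hN (hWN a.2)).2, ha⟩
        rwa [hOs] at hm
      have ha1 := hV _ a.1.2 hat
      refine Subtype.ext (Subtype.ext ?_)
      exact (EtaleSplit.eq_of_section f g p t hgbij σ' hσ'1 hσ't _ ha1 hat).trans hv'.symm
    · rintro rfl
      change (Φ ∣_ W ≫ W.ι ≫ g) s'' = f p
      rw [hcomp]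
      exact (congrArg g hv2).trans hgt
  · refine isIso_residueFieldMap_comp _ _ _ inferInstance (isIso_residueFieldMap_comp _ _ _ inferInstance ?_)
    let σ' : Spec (P.residueField p) ⟶ pullback f g := pullback.lift (P.fromSpecResidueField p)
      (Spec.map (f.residueFieldMap p) ≫ σ)
      (by rw [Category.assoc, hσ, Scheme.Hom.SpecMap_residueFieldMap_fromSpecResidueField])
    have hσ't : pullback.snd f g (σ' (IsLocalRing.closedPoint _)) = t := by
      rw [← Scheme.Hom.comp_apply, pullback.lift_snd, Scheme.Hom.comp_apply]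
      exact congrArg σ (Subsingleton.elim _ _)
    refine isIso_residueFieldMap_of_section _ p σ' (pullback.lift_fst _ _ _) _ ?_
    exact (EtaleSplit.eq_of_section f g p t hgbij σ' (pullback.lift_fst _ _ _) hσ't v hv1 hv2).symm

end Groth.Agent.QuasiSecLib
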