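import Groth.Agent.DimFormulaLib.FibrePoints
import Groth.Agent.ASp.LiftDim
/-!
A quasi-finite map from an n-dimensional component of a fibre to affine n-space hits the generic point.
-/

set_option autoImplicit false
set_option backward.isDefEq.respectTransparency false
set_option backward.isDefEq.respectTransparency.types false
set_option linter.style.haveILetI false

universe u

open CategoryTheory CategoryTheory.Limits AlgebraicGeometry

noncomputable section

namespace Groth.Agent.QuasiSecLib

theorem specializes_of_component_dim_eq {X S : Scheme.{u}} (f : X ⟶ S) (n : ℕ)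
    (u : X ⟶ 𝔸(ULift.{u} (Fin n); S)) [LocallyQuasiFinite u] (hu : u ≫ (𝔸(ULift.{u} (Fin n); S) ↘ S) = f)
    (s : S) (Z : Set ↥(f.base ⁻¹' {s})) (hZ : IsClosed Z) (z : X)
    (hz : z ∈ Subtype.val '' Z ∧ Subtype.val '' Z ⊆ closure {z}) (hdim : topologicalKrullDim ↥Z = n)
    (a : 𝔸(ULift.{u} (Fin n); S)) (ha : (𝔸(ULift.{u} (Fin n); S) ↘ S) a = s) : u z ⤳ a := by
  obtain ⟨⟨zsub, hzZ, rfl⟩, hzcl⟩ := hz
  let σ := ULift.{u} (Fin n)
  let k := S.residueField s
  let Ak := 𝔸(σ; Spec k)
  let m : Ak ⟶ 𝔸(σ; S) := AffineSpace.map σ (S.fromSpecResidueField s)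
  have sqA : IsPullback m (Ak ↘ Spec k) (𝔸(σ; S) ↘ S) (S.fromSpecResidueField s) := AffineSpace.isPullback_map _
  let uk : f.fiber s ⟶ Ak := sqA.lift (f.fiberι s ≫ u) (f.fiberToSpecResidueField s) (by
    rw [Category.assoc, hu]; exact pullback.condition)
  have hukm : uk ≫ m = f.fiberι s ≫ u := sqA.lift_fst _ _ _
  have sqU : IsPullback (f.fiberι s) uk u m := IsPullback.of_bot (by
    rw [sqA.lift_snd, hu]; exact IsPullback.of_hasPullback f _) hukm.symm sqA
  haveI : LocallyQuasiFinite uk := MorphismProperty.of_isPullback sqU ‹LocallyQuasiFinite u›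
  let zs : f.fiber s := (f.fiberHomeo s).symm zsub
  have hzs : f.fiberι s zs = zsub.1 := congrArg Subtype.val ((f.fiberHomeo s).apply_symm_apply zsub)
  -- the height of the generic point
  have hZeq : Z = closure {zsub} := by
    refine (hZ.closure_subset_iff.2 (Set.singleton_subset_iff.2 hzZ)).antisymm' fun w hw => ?_
    rw [closure_subtype, Set.image_singleton]
    exact hzcl ⟨w, hw, rfl⟩
  have hzh : (Order.height zs : WithBot ℕ∞) = n := by
    rw [← DimFormulaLib.topologicalKrullDim_closure_singleton, ← hdim, hZeq,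
      IsHomeomorph.topologicalKrullDim_eq _ ((f.fiberHomeo s).image (closure {zs})).isHomeomorph]
    rw [Homeomorph.image_closure, Set.image_singleton, (f.fiberHomeo s).apply_symm_apply]
  have hmono : StrictMono uk := fun b c hbc => by
    have hle : uk b ≤ uk c := Scheme.le_iff_specializes.2 ((Scheme.le_iff_specializes.1 hbc.le).map uk.continuous)
    refine lt_iff_le_not_ge.2 ⟨hle, fun hge => hbc.not_ge ?_⟩
    have e : uk b = uk c := ((Scheme.le_iff_specializes.1 hle).antisymm (Scheme.le_iff_specializes.1 hge)).eq.symm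
    have hd := uk.isDiscrete_preimage_singleton (uk c)
    rw [isDiscrete_iff_discreteTopology] at hd
    have h3 : (⟨c, rfl⟩ : ↥(uk ⁻¹' {uk c})) ⤳ ⟨b, e⟩ :=
      Topology.IsInducing.subtypeVal.specializes_iff.mp (Scheme.le_iff_specializes.1 hbc.le)
    exact ((congrArg Subtype.val h3.eq).le : c ≤ b)
  have hAdim : topologicalKrullDim ↥Ak = n := by
    rw [IsHomeomorph.topologicalKrullDim_eq _ (TopCat.homeoOfIso (Scheme.forgetToTop.mapIso (AffineSpace.SpecIso σ k))).isHomeomorph]
    show topologicalKrullDim (PrimeSpectrum (MvPolynomial σ k)) = n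
    rw [PrimeSpectrum.topologicalKrullDim_eq_ringKrullDim, MvPolynomial.ringKrullDim_of_isNoetherianRing,
      ringKrullDim_eq_zero_of_field, zero_add]
    simp [σ]
  haveI : Nonempty ↥Ak := ⟨uk zs⟩
  have hsum : ((Order.height (uk zs) + Order.coheight (uk zs) : ℕ∞) : WithBot ℕ∞) ≤ (n : WithBot ℕ∞) := by
    rw [← hAdim, ASp.topologicalKrullDim_eq_krullDim, Order.krullDim_eq_iSup_height_add_coheight_of_nonempty]
    exact WithBot.coe_le_coe.2 (le_iSup (fun w : ↥Ak => Order.height w + Order.coheight w) (uk zs))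
  have hh := Order.height_le_height_apply_of_strictMono uk hmono zs
  have hn : Order.height zs = (n : ℕ∞) := by exact_mod_cast hzh
  rw [hn] at hh
  have hco : Order.coheight (uk zs) = 0 := by
    have h1 : Order.height (uk zs) + Order.coheight (uk zs) ≤ (n : ℕ∞) := by exact_mod_cast hsum
    have h2 : (n : ℕ∞) + Order.coheight (uk zs) ≤ (n : ℕ∞) + 0 := by
      rw [add_zero]; exact (add_le_add_left hh _).trans h1
    exact nonpos_iff_eq_zero.1 ((WithTop.add_le_add_iff_left (ENat.coe_ne_top n)).1 h2)
  have hmax : IsMax (uk zs) := Order.coheight_eq_zero.1 hco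
  obtain ⟨a', ha', -⟩ := Scheme.Pullback.exists_preimage_pullback (f := (𝔸(σ; S) ↘ S))
    (g := S.fromSpecResidueField s) a (IsLocalRing.closedPoint _) (by rw [ha, Scheme.fromSpecResidueField_apply])
  rw [← sqA.isoPullback_inv_fst, Scheme.Hom.comp_apply] at ha'
  rw [← ha', ← hzs, ← Scheme.Hom.comp_apply, ← hukm, Scheme.Hom.comp_apply]
  haveI : IrreducibleSpace ↥Ak := inferInstance
  have hg : genericPoint ↥Ak ⤳ uk zs := genericPoint_specializes _
  have := Scheme.le_iff_specializes.1 (hmax (Scheme.le_iff_specializes.2 hg))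
  exact (this.trans (genericPoint_specializes _)).map m.continuous

end Groth.Agent.QuasiSecLib
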