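import Groth.Agent.QuasiSecLib.Alg
import Groth.Agent.S3404
import Groth.Agent.FlatLocus.FibreCrit
import Groth.Agent.HTopV.Basic
import Groth.Prelude.Def_EGA43
/-!
Universal openness of quasi-finite maps to affine space.
-/

set_option autoImplicit false
set_option backward.isDefEq.respectTransparency false
set_option backward.isDefEq.respectTransparency.types false
set_option linter.style.haveILetI false

universe u

open CategoryTheory CategoryTheory.Limits AlgebraicGeometry

noncomputable section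

namespace Groth.Agent.QuasiSecLib

/-- Generisations lift along a quasi-finite map to affine space over a valuation ring, at a point
specialising from a point over the generic point of the closed fibre with generisations over the generic point. -/
theorem exists_generization_valuation {σ : Type u} [Finite σ] {V : CommRingCat.{u}} [IsDomain V] [ValuationRing V]
    {X : Scheme.{u}} (u : X ⟶ Spec (.of (MvPolynomial σ V))) [LocallyQuasiFinite u] [LocallyOfFiniteType u]
    {w z x : X} (hzx : z ⤳ x) (hwz : w ⤳ z)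
    (hz : ((u z : PrimeSpectrum (MvPolynomial σ V))).asIdeal = (IsLocalRing.maximalIdeal V).map MvPolynomial.C)
    (hw : ((u w : PrimeSpectrum (MvPolynomial σ V))).asIdeal.comap MvPolynomial.C = ⊥)
    (a : Spec (.of (MvPolynomial σ V))) (ha : a ⤳ u x) : ∃ w' : X, w' ⤳ x ∧ u w' = a := by
  haveI : IsIntegrallyClosed (MvPolynomial σ V) := isIntegrallyClosed_mvPolynomial σ V
  have hbot : ((u w : PrimeSpectrum (MvPolynomial σ V))).asIdeal = ⊥ :=
    eq_bot_of_le_map_C _ hw (hz ▸ (PrimeSpectrum.le_iff_specializes _ _).2 (hwz.map u.continuous))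
  obtain ⟨U, hU, hxU, -⟩ := exists_isAffineOpen_mem_and_subset (X := X) (x := x) (U := ⊤) trivial
  have hwU : w ∈ U := (hwz.trans hzx).mem_open U.2 hxU
  obtain ⟨xq, hxq⟩ : x ∈ Set.range hU.fromSpec := by rw [hU.range_fromSpec]; exact hxU
  obtain ⟨wq, hwq⟩ : w ∈ Set.range hU.fromSpec := by rw [hU.range_fromSpec]; exact hwU
  let φ := Spec.preimage (hU.fromSpec ≫ u)
  have hφ : Spec.map φ = hU.fromSpec ≫ u := Spec.map_preimage _
  have hqf : φ.hom.QuasiFinite :=
    (HasRingHomProperty.Spec_iff (P := @LocallyQuasiFinite)).1 (hφ ▸ inferInstance)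
  have hft : φ.hom.FiniteType :=
    (HasRingHomProperty.Spec_iff (P := @LocallyOfFiniteType)).1 (hφ ▸ inferInstance)
  letI := φ.hom.toAlgebra
  haveI : Algebra.FiniteType (MvPolynomial σ V) Γ(X, U) := hft
  haveI : Algebra.QuasiFinite (MvPolynomial σ V) Γ(X, U) := hqf
  haveI : Algebra.QuasiFiniteAt (MvPolynomial σ V) (xq : PrimeSpectrum Γ(X, U)).asIdeal := inferInstance
  have hsp : wq ⤳ xq := hU.fromSpec.isOpenEmbedding.isInducing.specializes_iff.1 (by
    rw [hwq, hxq]; exact hwz.trans hzx)
  have hmap : ∀ r, Spec.map φ r = u (hU.fromSpec r) := fun r => by rw [hφ, Scheme.Hom.comp_apply]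
  obtain ⟨q, hq, hqx, hqa⟩ := exists_le_under_eq (R := MvPolynomial σ V)
    (P := (wq : PrimeSpectrum Γ(X, U)).asIdeal) (Q := (xq : PrimeSpectrum Γ(X, U)).asIdeal)
    ((PrimeSpectrum.le_iff_specializes _ _).2 hsp)
    (by
      show ((Spec.map φ wq : PrimeSpectrum (MvPolynomial σ V))).asIdeal = ⊥
      rw [hmap, hwq, hbot])
    (a : PrimeSpectrum (MvPolynomial σ V)).asIdeal
    (by
      show _ ≤ ((Spec.map φ xq : PrimeSpectrum (MvPolynomial σ V))).asIdeal
      rw [hmap, hxq]
      exact (PrimeSpectrum.le_iff_specializes _ _).2 ha)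
  let qq : Spec Γ(X, U) := (⟨q, hq⟩ : PrimeSpectrum Γ(X, U))
  refine ⟨hU.fromSpec qq, ?_, ?_⟩
  · rw [← hxq]
    exact ((PrimeSpectrum.le_iff_specializes (⟨q, hq⟩ : PrimeSpectrum Γ(X, U)) xq).1 hqx).map hU.fromSpec.continuous
  · rw [← hmap]
    exact PrimeSpectrum.ext hqa

variable {X S : Scheme.{u}} {σ : Type u} [Finite σ]

set_option maxHeartbeats 800000 in
/-- A quasi-finite morphism to affine space is universally open at the specialisations within a fibre of a
point at which the structure map is universally open and which maps to the generic point of the fibre. -/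
theorem isUnivOpenAt_affineSpace (f : X ⟶ S) [LocallyOfFinitePresentation f] (u : X ⟶ 𝔸(σ; S)) [LocallyQuasiFinite u]
    (hu : u ≫ (𝔸(σ; S) ↘ S) = f) {z x : X} (hzx : z ⤳ x) (hfz : f z = f x)
    (hgen : ∀ a : 𝔸(σ; S), (𝔸(σ; S) ↘ S) a = f x → u z ⤳ a) (hopen : EGA43.IsUnivOpenAt f z) :
    EGA43.IsUnivOpenAt u x := by
  haveI : LocallyOfFinitePresentation (u ≫ (𝔸(σ; S) ↘ S)) := by rw [hu]; infer_instance
  haveI : LocallyOfFinitePresentation u := FlatLocus.locallyOfFinitePresentation_of_comp u (𝔸(σ; S) ↘ S)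
  intro T g p hp
  refine ((S3404.result (pullback.snd u g) p).2 inferInstance).2 fun t' ht' => ?_
  obtain ⟨V, _, _, l, hl, hl'⟩ := HTopV.exists_valuationRing_of_specializes ht'
  let Q := pullback (pullback.snd u g) l
  obtain ⟨q, hq₁, hq₂⟩ := Scheme.Pullback.exists_preimage_pullback (f := pullback.snd u g) (g := l) p
    (IsLocalRing.closedPoint V) hl.symm
  have sqQ : IsPullback (pullback.fst (pullback.snd u g) l ≫ pullback.fst u g) (pullback.snd (pullback.snd u g) l) u (l ≫ g) :=
    (IsPullback.of_hasPullback (pullback.snd u g) l).paste_horiz (IsPullback.of_hasPullback u g)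
  let σS : Spec V ⟶ S := (l ≫ g) ≫ (𝔸(σ; S) ↘ S)
  -- the base change to the valuation ring
  let XV := pullback f σS
  let g' : XV ⟶ X := pullback.fst f σS
  let AV : Scheme.{u} := Spec (.of (MvPolynomial σ V))
  let πV : AV ⟶ Spec V := Spec.map (CommRingCat.ofHom MvPolynomial.C)
  let m' : AV ⟶ 𝔸(σ; S) := (AffineSpace.SpecIso σ V).inv ≫ AffineSpace.map σ σS
  have sqA : IsPullback m' πV (𝔸(σ; S) ↘ S) σS := by
    refine IsPullback.of_iso (AffineSpace.isPullback_map (n := σ) σS) (AffineSpace.SpecIso σ V) (Iso.refl _) (Iso.refl _)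
      (Iso.refl _) ?_ ?_ (by simp) (by simp)
    · simp [m']
    · simp only [Iso.refl_hom, Category.comp_id]
      rw [← Iso.inv_comp_eq, AffineSpace.SpecIso_inv_over]
  let u' : XV ⟶ AV := sqA.lift (g' ≫ u) (pullback.snd f σS) (by
    rw [Category.assoc, hu]; exact pullback.condition)
  have hu'm : u' ≫ m' = g' ≫ u := sqA.lift_fst _ _ _
  have hu'π : u' ≫ πV = pullback.snd f σS := sqA.lift_snd _ _ _
  have sqU : IsPullback g' u' u m' := IsPullback.of_bot (by
    rw [hu'π, hu]; exact IsPullback.of_hasPullback f σS) hu'm.symm sqA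
  haveI : LocallyQuasiFinite u' := MorphismProperty.of_isPullback sqU ‹LocallyQuasiFinite u›
  haveI : LocallyOfFiniteType u' := MorphismProperty.of_isPullback sqU (inferInstanceAs (LocallyOfFiniteType u))
  let σ' : Spec V ⟶ AV := sqA.lift (l ≫ g) (𝟙 _) (Category.id_comp _).symm
  have hσ'm : σ' ≫ m' = l ≫ g := sqA.lift_fst _ _ _
  have hσ'π : σ' ≫ πV = 𝟙 _ := sqA.lift_snd _ _ _
  let ι : Q ⟶ XV := sqU.lift (pullback.fst (pullback.snd u g) l ≫ pullback.fst u g)
    (pullback.snd (pullback.snd u g) l ≫ σ') (by rw [Category.assoc _ σ' m', hσ'm, sqQ.w])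
  have hιg : ι ≫ g' = pullback.fst (pullback.snd u g) l ≫ pullback.fst u g := sqU.lift_fst _ _ _
  have hιu : ι ≫ u' = pullback.snd (pullback.snd u g) l ≫ σ' := sqU.lift_snd _ _ _
  have sqι : IsPullback ι (pullback.snd (pullback.snd u g) l) u' σ' := IsPullback.of_right (by
    rw [hιg, hσ'm]; exact sqQ) hιu sqU
  haveI : IsClosedImmersion σ' := by
    haveI : IsClosedImmersion (σ' ≫ πV) := by rw [hσ'π]; infer_instance
    exact IsClosedImmersion.of_comp σ' πV
  haveI : IsClosedImmersion ι := MorphismProperty.of_isPullback (P := @IsClosedImmersion) sqι.flip ‹_›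
  let x' : XV := ι q
  let c : Spec V := IsLocalRing.closedPoint V
  have hx'g : g' x' = x := by
    rw [← Scheme.Hom.comp_apply, hιg, Scheme.Hom.comp_apply, hq₁, hp]
  have hx'u : u' x' = σ' c := by
    rw [← Scheme.Hom.comp_apply, hιu, Scheme.Hom.comp_apply, hq₂]
  have hπσ : ∀ v, πV (σ' v) = v := fun v => by
    rw [← Scheme.Hom.comp_apply, hσ'π]; rfl
  have hsnd : ∀ w, pullback.snd f σS w = πV (u' w) := fun w => by
    rw [← Scheme.Hom.comp_apply, hu'π]
  have hc : pullback.snd f σS x' = c := by rw [hsnd, hx'u, hπσ]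
  have hs : σS c = f x := by
    rw [← hx'g, ← hc]
    show σS (pullback.snd f σS x') = f (g' x')
    rw [← Scheme.Hom.comp_apply, ← pullback.condition, Scheme.Hom.comp_apply]
  -- a point over z specialising to x' in the closed fibre
  let c₁ := (Spec V).fromSpecResidueField c
  let Kf := pullback (pullback.snd f σS) c₁
  let P₀ := pullback f (S.fromSpecResidueField (σS c))
  have hK : IsPullback (pullback.fst (pullback.snd f σS) c₁ ≫ g') (pullback.snd (pullback.snd f σS) c₁) f
      (Spec.map (σS.residueFieldMap c) ≫ S.fromSpecResidueField (σS c)) := by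
    rw [Scheme.Hom.SpecMap_residueFieldMap_fromSpecResidueField]
    exact (IsPullback.of_hasPullback _ c₁).paste_horiz (IsPullback.of_hasPullback f σS)
  let k : Kf ⟶ P₀ := pullback.lift (pullback.fst (pullback.snd f σS) c₁ ≫ g')
    (pullback.snd (pullback.snd f σS) c₁ ≫ Spec.map (σS.residueFieldMap c)) (by rw [Category.assoc _ _ (S.fromSpecResidueField _), hK.w])
  have hkfst : k ≫ pullback.fst f (S.fromSpecResidueField (σS c)) = pullback.fst _ c₁ ≫ g' := pullback.lift_fst _ _ _
  have hk : IsPullback k (pullback.snd (pullback.snd f σS) c₁) (pullback.snd f (S.fromSpecResidueField (σS c)))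
      (Spec.map (σS.residueFieldMap c)) :=
    IsPullback.of_right (by rw [hkfst]; exact hK) (pullback.lift_snd _ _ _) (IsPullback.of_hasPullback f _)
  haveI : Flat (Spec.map (σS.residueFieldMap c)) := by
    rw [HasRingHomProperty.Spec_iff (P := @Flat)]
    letI := (σS.residueFieldMap c).hom.toAlgebra
    exact RingHom.flat_algebraMap_iff.2 inferInstance
  haveI : Flat k := MorphismProperty.of_isPullback (P := @Flat) hk.flip ‹_›
  obtain ⟨xk, hxk, -⟩ := Scheme.Pullback.exists_preimage_pullback (f := pullback.snd f σS) (g := c₁) x'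
    (IsLocalRing.closedPoint _) (by rw [hc, Scheme.fromSpecResidueField_apply])
  obtain ⟨zs, hzs, -⟩ := Scheme.Pullback.exists_preimage_pullback (f := f) (g := S.fromSpecResidueField (σS c)) z
    (IsLocalRing.closedPoint _) (by rw [hfz, ← hs, Scheme.fromSpecResidueField_apply])
  have hzsx : zs ⤳ k xk := by
    refine (pullback.fst f (S.fromSpecResidueField (σS c))).isEmbedding.isInducing.specializes_iff.1 ?_
    rw [hzs, ← Scheme.Hom.comp_apply, hkfst, Scheme.Hom.comp_apply, hxk, hx'g]
    exact hzx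
  obtain ⟨zk, hzkx, hzk⟩ := Flat.generalizingMap k hzsx
  let z₂ : XV := pullback.fst (pullback.snd f σS) c₁ zk
  have hz₂x : z₂ ⤳ x' := hxk ▸ hzkx.map (pullback.fst (pullback.snd f σS) c₁).continuous
  have hz₂g : g' z₂ = z := by
    rw [← Scheme.Hom.comp_apply, ← hkfst, Scheme.Hom.comp_apply, hzk, hzs]
  have hz₂c : pullback.snd f σS z₂ = c := by
    rw [← Scheme.Hom.comp_apply, pullback.condition, Scheme.Hom.comp_apply, Scheme.fromSpecResidueField_apply]
  -- the generic point of the closed fibre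
  haveI := isPrime_map_C (σ := σ) (IsLocalRing.maximalIdeal V)
  let ξ : AV := (⟨(IsLocalRing.maximalIdeal V).map MvPolynomial.C, inferInstance⟩ : PrimeSpectrum (MvPolynomial σ V))
  have hξle : ∀ a : AV, πV a = c → ξ ⤳ a := fun a ha => by
    refine (PrimeSpectrum.le_iff_specializes _ _).1 (show (IsLocalRing.maximalIdeal V).map MvPolynomial.C ≤ _ from ?_)
    rw [Ideal.map_le_iff_le_comap]
    exact (congrArg PrimeSpectrum.asIdeal ha).ge
  have hξc : πV ξ = c := by
    refine PrimeSpectrum.ext (le_antisymm (IsLocalRing.le_maximalIdeal (Ideal.IsPrime.ne_top inferInstance)) ?_)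
    exact Ideal.le_comap_map
  have hAs : ∀ a : AV, (𝔸(σ; S) ↘ S) (m' a) = σS (πV a) := fun a => by
    rw [← Scheme.Hom.comp_apply, ← Scheme.Hom.comp_apply, sqA.w]
  have hξm : m' ξ = u z := by
    have h₁ : u z ⤳ m' ξ := hgen _ (by rw [hAs, hξc, hs])
    have h₂ : m' ξ ⤳ u z := by
      rw [← hz₂g, ← Scheme.Hom.comp_apply, ← hu'm, Scheme.Hom.comp_apply]
      exact (hξle _ ((hsnd z₂).symm.trans hz₂c)).map m'.continuous
    exact (h₂.antisymm h₁).eq
  -- lift the generic point to a point over z
  let Qz := pullback g' (X.fromSpecResidueField z)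
  let Rξ := pullback m' ((𝔸(σ; S)).fromSpecResidueField (u z))
  have hQz : IsPullback (pullback.fst g' (X.fromSpecResidueField z) ≫ u') (pullback.snd g' (X.fromSpecResidueField z)) m'
      (Spec.map (u.residueFieldMap z) ≫ (𝔸(σ; S)).fromSpecResidueField (u z)) := by
    rw [Scheme.Hom.SpecMap_residueFieldMap_fromSpecResidueField]
    exact (IsPullback.of_hasPullback g' (X.fromSpecResidueField z)).paste_horiz sqU.flip
  let Φ : Qz ⟶ Rξ := pullback.lift (pullback.fst g' (X.fromSpecResidueField z) ≫ u')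
    (pullback.snd g' (X.fromSpecResidueField z) ≫ Spec.map (u.residueFieldMap z))
    (by rw [Category.assoc _ _ ((𝔸(σ; S)).fromSpecResidueField _), hQz.w])
  have hΦfst : Φ ≫ pullback.fst m' ((𝔸(σ; S)).fromSpecResidueField (u z)) = pullback.fst g' _ ≫ u' := pullback.lift_fst _ _ _
  have hΦ : IsPullback Φ (pullback.snd g' (X.fromSpecResidueField z))
      (pullback.snd m' ((𝔸(σ; S)).fromSpecResidueField (u z))) (Spec.map (u.residueFieldMap z)) :=
    IsPullback.of_right (by rw [hΦfst]; exact hQz) (pullback.lift_snd _ _ _) (IsPullback.of_hasPullback m' _)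
  haveI : Flat (Spec.map (u.residueFieldMap z)) := by
    rw [HasRingHomProperty.Spec_iff (P := @Flat)]
    letI := (u.residueFieldMap z).hom.toAlgebra
    exact RingHom.flat_algebraMap_iff.2 inferInstance
  haveI : Flat Φ := MorphismProperty.of_isPullback (P := @Flat) hΦ.flip ‹_›
  obtain ⟨zq, hzq, -⟩ := Scheme.Pullback.exists_preimage_pullback (f := g') (g := X.fromSpecResidueField z) z₂
    (IsLocalRing.closedPoint _) (by rw [hz₂g, Scheme.fromSpecResidueField_apply])
  obtain ⟨ξr, hξr, -⟩ := Scheme.Pullback.exists_preimage_pullback (f := m') (g := (𝔸(σ; S)).fromSpecResidueField (u z)) ξ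
    (IsLocalRing.closedPoint _) (by rw [hξm, Scheme.fromSpecResidueField_apply])
  have hξzq : ξr ⤳ Φ zq := by
    refine (pullback.fst m' ((𝔸(σ; S)).fromSpecResidueField (u z))).isEmbedding.isInducing.specializes_iff.1 ?_
    rw [hξr, ← Scheme.Hom.comp_apply, hΦfst, Scheme.Hom.comp_apply, hzq]
    exact hξle _ ((hsnd z₂).symm.trans hz₂c)
  obtain ⟨zq', hzq'z, hzq'⟩ := Flat.generalizingMap Φ hξzq
  let z' : XV := pullback.fst g' (X.fromSpecResidueField z) zq'
  have hz'x : z' ⤳ x' := ((hzq ▸ hzq'z.map (pullback.fst g' (X.fromSpecResidueField z)).continuous) : z' ⤳ z₂).trans hz₂x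
  have hz'g : g' z' = z := by
    rw [← Scheme.Hom.comp_apply, pullback.condition, Scheme.Hom.comp_apply, Scheme.fromSpecResidueField_apply]
  have hz'u : u' z' = ξ := by
    rw [← Scheme.Hom.comp_apply, ← hΦfst, Scheme.Hom.comp_apply, hzq', hξr]
  -- generise to the generic fibre
  obtain ⟨w, hwz, hw⟩ := (S3404.result (pullback.snd f σS) z').1 (hopen _ σS z' hz'g) (HTopV.genPt V)
    (HTopV.genPt_specializes V _)
  obtain ⟨w', hw'x, hw'u⟩ := exists_generization_valuation u' hz'x hwz (congrArg PrimeSpectrum.asIdeal hz'u)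
    (by
      show ((πV (u' w) : PrimeSpectrum V)).asIdeal = ⊥
      rw [← hsnd, show pullback.snd f σS w = HTopV.genPt V from hw]
      rfl)
    (σ' (HTopV.genPt V)) (by rw [hx'u]; exact (HTopV.genPt_specializes V c).map σ'.continuous)
  obtain ⟨q', hq'w, hq'η⟩ := Scheme.Pullback.exists_preimage_pullback (f := u') (g := σ') w' (HTopV.genPt V) hw'u
  have h₁ := sqι.isoPullback_inv_fst
  have h₂ := sqι.isoPullback_inv_snd
  rw [← h₁, Scheme.Hom.comp_apply] at hq'w
  rw [← h₂, Scheme.Hom.comp_apply] at hq'η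
  refine ⟨pullback.fst (pullback.snd u g) l (sqι.isoPullback.inv q'), ?_, ?_⟩
  · rw [← hq₁]
    refine Specializes.map ?_ (pullback.fst (pullback.snd u g) l).continuous
    refine ι.isEmbedding.isInducing.specializes_iff.1 ?_
    rw [hq'w]
    exact hw'x
  · rw [← hl', ← hq'η]
    show pullback.snd u g (pullback.fst (pullback.snd u g) l _) = l (pullback.snd (pullback.snd u g) l _)
    rw [← Scheme.Hom.comp_apply, pullback.condition, Scheme.Hom.comp_apply]

end Groth.Agent.QuasiSecLib
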