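import Groth.Agent.QuasiSecLib.Coords
import Groth.Agent.QuasiSecLib.EtalePart
import Groth.Agent.QuasiSecLib.UnivOpen
import Groth.Agent.QuasiSecLib.FibreGen
import Groth.Agent.UnivOpenAtLib.Dvr
import Groth.Agent.FlatDim.Trdeg
/-!
Quasi-sections through a closed point of a fibre.
-/

set_option autoImplicit false
set_option backward.isDefEq.respectTransparency false
set_option backward.isDefEq.respectTransparency.types false
set_option linter.style.haveILetI false

universe u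

open CategoryTheory CategoryTheory.Limits AlgebraicGeometry TopologicalSpace

noncomputable section

namespace Groth.Agent.QuasiSecLib

/-- A closed subset of a fibre with generic point `z` has dimension the residual transcendence degree at `z`. -/
theorem dim_eq_trdeg {X S : Scheme.{u}} (f : X ⟶ S) [LocallyOfFiniteType f] (s : S)
    (Z : Set ↥(f.base ⁻¹' {s})) (hZ : IsClosed Z) (z : X)
    (hz : z ∈ Subtype.val '' Z ∧ Subtype.val '' Z ⊆ closure {z}) :
    ∃ n : ℕ, DimFormulaLib.resTrdegAt f z = n ∧ topologicalKrullDim ↥Z = n := by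
  obtain ⟨⟨zsub, hzZ, rfl⟩, hzcl⟩ := hz
  haveI : LocallyOfFiniteType (f.fiberToSpecResidueField s) :=
    MorphismProperty.pullback_snd _ _ inferInstance
  let zs : f.fiber s := (f.fiberHomeo s).symm zsub
  have hzs : f.fiberι s zs = zsub.1 := congrArg Subtype.val ((f.fiberHomeo s).apply_symm_apply zsub)
  have hZeq : Z = closure {zsub} := by
    refine (hZ.closure_subset_iff.2 (Set.singleton_subset_iff.2 hzZ)).antisymm' fun w hw => ?_
    rw [closure_subtype, Set.image_singleton]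
    exact hzcl ⟨w, hw, rfl⟩
  obtain ⟨n, hn, hd⟩ := FlatDim.topologicalKrullDim_closure (S.residueField s) (f.fiberToSpecResidueField s) zs
  refine ⟨n, ?_, ?_⟩
  · rw [← hn, FlatDim.resTrdegAt_fibre]
    exact FlatDim.resTrdegAt_point f hzs.symm
  · rw [← hd, hZeq, IsHomeomorph.topologicalKrullDim_eq _ ((f.fiberHomeo s).image (closure {zs})).isHomeomorph]
    rw [Homeomorph.image_closure, Set.image_singleton, (f.fiberHomeo s).apply_symm_apply]

theorem exists_quasiSection {X S : Scheme.{u}} (f : X ⟶ S) [LocallyOfFinitePresentation f]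
    (s : S) (x : X) (hxs : f.base x = s) (hx : IsClosed ((Subtype.val : ↥(f.base ⁻¹' {s}) → X) ⁻¹' {x}))
    (Z : Set ↥(f.base ⁻¹' {s})) (hZ : IsClosed Z) (hxZ : x ∈ (Subtype.val '' Z))
    (z : X) (hz : z ∈ Subtype.val '' Z ∧ Subtype.val '' Z ⊆ closure {z}) (hopen : EGA43.IsUnivOpenAt f z)
    (hdim : FlatMor.localDim ↥(f.base ⁻¹' {s}) ⟨x, hxs⟩ = topologicalKrullDim ↥Z) :
    ∃ (S' S'' : Scheme.{u}) (_ : IsAffine S') (w : S' ⟶ S) (π : S'' ⟶ S') (h : S'' ⟶ X),
      Etale w ∧ IsFinite π ∧ Surjective π ∧ LocallyOfFinitePresentation π ∧ h ≫ f = π ≫ w ∧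
      ∃ s'' : S'', (π ≫ w).base ⁻¹' {s} = {s''} ∧ h.base s'' = x ∧ IsIso (h.residueFieldMap s'') := by
  subst hxs
  obtain ⟨n, hn, hZn⟩ := dim_eq_trdeg f (f x) Z hZ z hz
  have hfz : f z = f x := by obtain ⟨⟨y, -, rfl⟩, -⟩ := hz; exact y.2
  have hzx : z ⤳ x := specializes_iff_mem_closure.2 (hz.2 hxZ)
  -- coordinates
  let e := f.fiberHomeo (f x)
  have he : e (f.asFiber x) = ⟨x, rfl⟩ := Subtype.ext (f.fiberι_asFiber x)
  have hcl : IsClosed ({f.asFiber x} : Set ↥(f.fiber (f x))) := by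
    have : ({f.asFiber x} : Set ↥(f.fiber (f x))) = e ⁻¹' (Subtype.val ⁻¹' {x}) := by
      ext a
      simp only [Set.mem_singleton_iff, Set.mem_preimage]
      rw [← e.injective.eq_iff, he, Subtype.ext_iff]
    rw [this]; exact hx.preimage e.continuous
  haveI : QuasiSober ↥(f.base ⁻¹' {f x}) := e.symm.isClosedEmbedding.quasiSober
  have hdimF : FlatMor.localDim ↥(f.fiber (f x)) (f.asFiber x) = n := by
    rw [FibreDimEt.localDim_eq_of_isGenLift (FibreDimEt.isGenLift_of_isOpenEmbedding e.isOpenEmbedding)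
      e.isOpenMap, he, ← hZn]
    exact hdim
  obtain ⟨U, hxU, v, hv, hqf⟩ := exists_coords f x n hcl hdimF
  let σ := ULift.{u} (Fin n)
  let u₀ := AffineSpace.homOfVector (U.ι ≫ f) v
  have hu₀ : u₀ ≫ (𝔸(σ; S) ↘ S) = U.ι ≫ f := AffineSpace.homOfVector_over _ _
  haveI : LocallyOfFinitePresentation (u₀ ≫ (𝔸(σ; S) ↘ S)) := by rw [hu₀]; infer_instance
  haveI : LocallyOfFinitePresentation u₀ := FlatLocus.locallyOfFinitePresentation_of_comp u₀ (𝔸(σ; S) ↘ S)
  let U' : Scheme.{u} := u₀.quasiFiniteLocus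
  let j : U' ⟶ X := u₀.quasiFiniteLocus.ι ≫ U.ι
  let f' : U' ⟶ S := j ≫ f
  let uu : U' ⟶ 𝔸(σ; S) := u₀.quasiFiniteLocus.ι ≫ u₀
  have huu : uu ≫ (𝔸(σ; S) ↘ S) = f' := by simp only [uu, f', j, Category.assoc, hu₀]
  let x' : U' := ⟨⟨x, hxU⟩, hqf⟩
  have hzU : z ∈ U := hzx.mem_open U.2 hxU
  have hzU' : (⟨z, hzU⟩ : U.toScheme) ∈ u₀.quasiFiniteLocus :=
    Specializes.mem_open (U.ι.isOpenEmbedding.isInducing.specializes_iff.1
      (show U.ι ⟨z, hzU⟩ ⤳ U.ι ⟨x, hxU⟩ from hzx)) u₀.quasiFiniteLocus.2 hqf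
  let z' : U' := ⟨⟨z, hzU⟩, hzU'⟩
  have hzx' : z' ⤳ x' := j.isOpenEmbedding.isInducing.specializes_iff.1 hzx
  let m : ↥(f'.base ⁻¹' {f x}) → ↥(f.base ⁻¹' {f x}) := fun a => ⟨j a.1, a.2⟩
  have hm : Continuous m := (j.continuous.comp continuous_subtype_val).subtype_mk _
  have hZ' : IsClosed (m ⁻¹' Z) := hZ.preimage hm
  have hz' : z' ∈ Subtype.val '' (m ⁻¹' Z) ∧ Subtype.val '' (m ⁻¹' Z) ⊆ closure {z'} := by
    refine ⟨⟨⟨z', hfz⟩, ?_, rfl⟩, ?_⟩
    · obtain ⟨⟨y, hy, hyz⟩, -⟩ := hz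
      show m ⟨z', hfz⟩ ∈ Z
      convert hy using 1
      exact Subtype.ext hyz.symm
    · rintro _ ⟨a, ha, rfl⟩
      rw [← specializes_iff_mem_closure, ← j.isOpenEmbedding.isInducing.specializes_iff]
      exact specializes_iff_mem_closure.2 (hz.2 ⟨_, ha, rfl⟩)
  obtain ⟨n', hn', hZn'⟩ := dim_eq_trdeg f' (f x) (m ⁻¹' Z) hZ' z' hz'
  have hnn : n' = n := by
    have h := hn'.symm.trans ((FlatDim.resTrdegAt_comp j f z').trans
      (by rw [FlatDim.resTrdegAt_preimmersion j z', add_zero]))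
    exact_mod_cast h.trans hn
  have hopen' : EGA43.IsUnivOpenAt f' z' :=
    UnivOpenAtLib.univOpenAt_comp (UnivOpenAtLib.universallyOpen_iff_forall.1 inferInstance z') hopen
  have huo : EGA43.IsUnivOpenAt uu x' :=
    isUnivOpenAt_affineSpace f' uu huu hzx' hfz
      (fun a ha => specializes_of_component_dim_eq f' n uu huu (f x) (m ⁻¹' Z) hZ' z' hz' (hnn ▸ hZn') a ha)
      hopen'
  -- the subscheme where the coordinates vanish
  let o : S ⟶ 𝔸(σ; S) := AffineSpace.homOfVector (𝟙 S) 0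
  let P := pullback uu o
  let k : Spec (X.residueField x) ⟶ U' := IsOpenImmersion.lift j (X.fromSpecResidueField x) (by
      rw [Scheme.range_fromSpecResidueField, Set.singleton_subset_iff]; exact ⟨x', rfl⟩)
  have hk : k ≫ j = X.fromSpecResidueField x := IsOpenImmersion.lift_fac _ _ _
  have hkx : k (IsLocalRing.closedPoint _) = x' := by
    refine j.isOpenEmbedding.injective ?_
    rw [← Scheme.Hom.comp_apply, hk, Scheme.fromSpecResidueField_apply]
    rfl
  have hko : k ≫ uu = (k ≫ f') ≫ o := by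
    refine AffineSpace.hom_ext ?_ fun i => ?_
    · show (k ≫ uu) ≫ _ = ((k ≫ f') ≫ o) ≫ _
      rw [Category.assoc k, Category.assoc (k ≫ f') o, AffineSpace.homOfVector_over, Category.comp_id]
      exact congrArg (k ≫ ·) huu
    · have h1 : uu.appTop (AffineSpace.coord S i) = u₀.quasiFiniteLocus.ι.appTop (v i) :=
        congrArg (fun r => u₀.quasiFiniteLocus.ι.appTop r) (AffineSpace.homOfVector_appTop_coord _ v i)
      show k.appTop (uu.appTop (AffineSpace.coord S i)) = (k ≫ f').appTop (o.appTop (AffineSpace.coord S i))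
      rw [h1, AffineSpace.homOfVector_appTop_coord, Pi.zero_apply, map_zero, ← CommRingCat.comp_apply,
        ← Scheme.Hom.comp_appTop, ← basicOpen_eq_bot_iff, ← Scheme.Hom.preimage_basicOpen_top]
      refine Opens.ext (Set.eq_empty_iff_forall_notMem.2 fun a ha => hv i ?_)
      have : (k ≫ u₀.quasiFiniteLocus.ι) a = (⟨x, hxU⟩ : U.toScheme) := by
        rw [Scheme.Hom.comp_apply, Subsingleton.elim a (IsLocalRing.closedPoint _), hkx]; rfl
      rw [← this]; exact ha
  let τ : Spec (X.residueField x) ⟶ P := pullback.lift k (k ≫ f') hko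
  let tx : P := τ (IsLocalRing.closedPoint _)
  have htx : pullback.fst uu o tx = x' := by
    rw [← Scheme.Hom.comp_apply, pullback.lift_fst, hkx]
  have hτ : τ ≫ pullback.fst uu o ≫ j = X.fromSpecResidueField x := by
    rw [pullback.lift_fst_assoc, hk]
  haveI : LocallyQuasiFinite (pullback.snd uu o) := MorphismProperty.pullback_snd _ _ inferInstance
  have hop : EGA43.IsUnivOpenAt (pullback.snd uu o) tx :=
    UnivOpenAtLib.univOpenAt_baseChange huo (IsPullback.of_hasPullback uu o) tx htx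
  obtain ⟨S', S'', hS', w, π, h, hw, hfin, hsurj, hlfp, hcomm, s'', hs'', hh, hiso⟩ :=
    exists_etale_finite_surjective (pullback.snd uu o) tx (Scheme.Hom.quasiFiniteAt _ _) hop
  have hsnd : pullback.fst uu o ≫ j ≫ f = pullback.snd uu o := by
    rw [show j ≫ f = uu ≫ (𝔸(σ; S) ↘ S) from huu.symm, pullback.condition_assoc, AffineSpace.homOfVector_over,
      Category.comp_id]
  have hpt : pullback.snd uu o tx = f x := by
    rw [← hsnd, Scheme.Hom.comp_apply, htx]; rfl
  refine ⟨S', S'', hS', w, π, h ≫ pullback.fst uu o ≫ j, hw, hfin, hsurj, hlfp, ?_, s'', hpt ▸ hs'', ?_, ?_⟩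
  · rw [Category.assoc, Category.assoc, hsnd, hcomm]
  · show (h ≫ pullback.fst uu o ≫ j) s'' = x
    rw [Scheme.Hom.comp_apply, show h s'' = tx from hh]
    show (pullback.fst uu o ≫ j) tx = x
    rw [Scheme.Hom.comp_apply, htx]; rfl
  · refine isIso_residueFieldMap_comp _ _ _ hiso ?_
    exact isIso_residueFieldMap_of_section _ x τ hτ _ hh.symm

end Groth.Agent.QuasiSecLib
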