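import Mathlib
/-!
Going down for quasi-finite extensions of normal domains; primes of polynomial rings over valuation rings.
-/

set_option autoImplicit false

universe u

namespace Groth.Agent.QuasiSecLib

/-- Going down at a quasi-finite prime of a domain extension of a normal domain. -/
theorem exists_le_under_eq {R B : Type u} [CommRing R] [IsDomain R] [IsIntegrallyClosed R] [CommRing B]
    [Algebra R B] [Algebra.FiniteType R B] {P Q : Ideal B} [P.IsPrime] [Q.IsPrime] (hPQ : P ≤ Q)
    (hP : P.under R = ⊥) [Algebra.QuasiFiniteAt R Q] (p : Ideal R) [p.IsPrime] (hp : p ≤ Q.under R) :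
    ∃ q : Ideal B, q.IsPrime ∧ q ≤ Q ∧ q.under R = p := by
  let C := B ⧸ P
  let QC : Ideal C := Q.map (Ideal.Quotient.mk P)
  haveI : QC.IsPrime := Ideal.map_isPrime_of_surjective Ideal.Quotient.mk_surjective (by rwa [Ideal.mk_ker])
  have hQC : QC.comap (Ideal.Quotient.mk P) = Q := by
    rw [Ideal.comap_map_of_surjective' _ Ideal.Quotient.mk_surjective, Ideal.mk_ker, sup_eq_left]
    exact hPQ
  haveI : Algebra.QuasiFiniteAt R QC := Algebra.QuasiFiniteAt.of_surjectiveOnStalks Q (Ideal.Quotient.mkₐ R P)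
    (RingHom.surjectiveOnStalks_of_surjective Ideal.Quotient.mk_surjective) QC hQC.symm
  haveI : FaithfulSMul R C := (faithfulSMul_iff_algebraMap_injective R C).2 fun a b h => by
    rw [← sub_eq_zero] at h ⊢
    rw [← map_sub, IsScalarTower.algebraMap_apply R B C, Ideal.Quotient.algebraMap_eq,
      Ideal.Quotient.eq_zero_iff_mem] at h
    have : a - b ∈ P.under R := h
    rwa [hP, Ideal.mem_bot] at this
  obtain ⟨r, hr, hri, hrx⟩ := Algebra.zariskisMainProperty_iff.1
    (Algebra.ZariskisMainProperty.of_finiteType (R := R) QC)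
  let C' := integralClosure R C
  haveI : FaithfulSMul R C' := (faithfulSMul_iff_algebraMap_injective R C').2 fun a b h =>
    FaithfulSMul.algebraMap_injective R C (congrArg Subtype.val h)
  let Q' : Ideal C' := QC.comap C'.val
  haveI : Q'.LiesOver (Q.under R) := ⟨by
    show Q.comap (algebraMap R B) = Q'.comap (algebraMap R C')
    rw [← hQC]
    rfl⟩
  obtain ⟨q', hq'Q, hq', hq'p⟩ := Ideal.exists_ideal_le_liesOver_of_le (p := p) (q := Q.under R) Q' hp
  let r' : C' := ⟨r, hri⟩
  have hr' : r' ∉ q' := fun h => hr (hq'Q h)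
  let qC : Ideal C :=
    { carrier := {x | ∃ (m : ℕ) (h : IsIntegral R (r ^ m * x)), (⟨r ^ m * x, h⟩ : C') ∈ q'}
      zero_mem' := ⟨0, by simpa using isIntegral_zero, by
        convert q'.zero_mem
        simp⟩
      add_mem' := by
        rintro x y ⟨m, hm, hmq⟩ ⟨n, hn, hnq⟩
        refine ⟨m + n, ?_, ?_⟩
        · rw [show r ^ (m + n) * (x + y) = r ^ n * (r ^ m * x) + r ^ m * (r ^ n * y) by ring]
          exact ((hri.pow n).mul hm).add ((hri.pow m).mul hn)
        · convert q'.add_mem (q'.mul_mem_left (r' ^ n) hmq) (q'.mul_mem_left (r' ^ m) hnq)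
          simp [r']; ring
      smul_mem' := by
        rintro c x ⟨m, hm, hmq⟩
        obtain ⟨a, ha⟩ := hrx c
        refine ⟨a + m, ?_, ?_⟩
        · rw [show r ^ (a + m) * c • x = (r ^ a * c) * (r ^ m * x) by rw [smul_eq_mul]; ring]
          exact ha.mul hm
        · convert q'.mul_mem_left (⟨_, ha⟩ : C') hmq
          simp; ring }
  haveI hqC : qC.IsPrime := by
    refine ⟨fun h => ?_, fun {x y} hxy => ?_⟩
    · obtain ⟨m, hm, hmq⟩ : (1 : C) ∈ qC := h ▸ trivial
      refine hr' (hq'.mem_of_pow_mem m ?_)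
      convert hmq
      simp [r']
    · obtain ⟨m, hm, hmq⟩ := hxy
      obtain ⟨a, ha⟩ := hrx x
      obtain ⟨b, hb⟩ := hrx y
      have h : (⟨_, ha⟩ : C') * ⟨_, hb⟩ * r' ^ m = r' ^ (a + b) * ⟨_, hm⟩ := Subtype.ext (by simp [r']; ring)
      rcases hq'.mem_or_mem (h ▸ q'.mul_mem_left (r' ^ (a + b)) hmq) with h1 | h1
      · exact (hq'.mem_or_mem h1).imp (fun h2 => ⟨a, ha, h2⟩) fun h2 => ⟨b, hb, h2⟩
      · exact absurd (hq'.mem_of_pow_mem m h1) hr'
  refine ⟨qC.comap (Ideal.Quotient.mk P), inferInstance, fun x hx => ?_, ?_⟩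
  · obtain ⟨m, hm, hmq⟩ : Ideal.Quotient.mk P x ∈ qC := hx
    rw [← hQC, Ideal.mem_comap]
    exact ((inferInstance : QC.IsPrime).mem_or_mem (hq'Q hmq : r ^ m * _ ∈ QC)).resolve_left
      fun h => hr ((inferInstance : QC.IsPrime).mem_of_pow_mem m h)
  · ext a
    constructor
    · rintro ⟨m, hm, hmq⟩
      have h : (⟨_, hm⟩ : C') = r' ^ m * algebraMap R C' a := Subtype.ext rfl
      rw [h] at hmq
      rw [hq'p.over]
      exact (hq'.mem_or_mem hmq).resolve_left fun h1 => hr' (hq'.mem_of_pow_mem m h1)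
    · intro ha
      rw [hq'p.over] at ha
      refine ⟨0, ?_, ?_⟩
      · simp only [pow_zero, one_mul]
        exact isIntegral_algebraMap
      · convert (ha : algebraMap R C' a ∈ q')
        simp; rfl

/-- Content: a polynomial over a valuation ring is a constant times one which is nonzero in the residue ring. -/
theorem exists_eq_C_mul {σ V : Type u} [CommRing V] [IsDomain V] [ValuationRing V] (f : MvPolynomial σ V) (hf : f ≠ 0) :
    ∃ (c : V) (g : MvPolynomial σ V), c ≠ 0 ∧ f = MvPolynomial.C c * g ∧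
      g ∉ (IsLocalRing.maximalIdeal V).map MvPolynomial.C := by
  classical
  let I : Ideal V := Ideal.span (Set.range fun d : f.support => f.coeff d.1)
  have hfg : I.FG := Submodule.fg_span (Set.finite_range _)
  obtain ⟨c, hc⟩ := (IsBezout.isPrincipal_of_FG I hfg).principal
  have hdvd : ∀ d, c ∣ f.coeff d := fun d => by
    by_cases hd : d ∈ f.support
    · rw [← Ideal.mem_span_singleton]
      rw [show Ideal.span {c} = I from hc.symm]
      exact Ideal.subset_span ⟨⟨d, hd⟩, rfl⟩
    · rw [MvPolynomial.notMem_support_iff.1 hd]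
      exact dvd_zero c
  obtain ⟨g, hg⟩ : MvPolynomial.C c ∣ f := MvPolynomial.C_dvd_iff_dvd_coeff c f |>.2 hdvd
  have hc0 : c ≠ 0 := fun h => hf (by rw [hg, h, map_zero, zero_mul])
  refine ⟨c, g, hc0, hg, fun hm => ?_⟩
  rw [MvPolynomial.mem_map_C_iff] at hm
  have hle : I ≤ Ideal.span {c} * IsLocalRing.maximalIdeal V := Ideal.span_le.2 (by
    rintro _ ⟨d, rfl⟩
    show f.coeff d.1 ∈ _
    rw [show f.coeff d.1 = c * g.coeff d.1 from (congrArg (MvPolynomial.coeff d.1) hg).trans (MvPolynomial.coeff_C_mul _ _ _)]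
    exact Ideal.mul_mem_mul (Ideal.mem_span_singleton_self c) (hm d.1))
  rw [show I = Ideal.span {c} from hc] at hle
  obtain ⟨z, hz, hzc⟩ := Ideal.mem_span_singleton_mul.1 (hle (Ideal.mem_span_singleton_self c))
  refine (IsLocalRing.mem_maximalIdeal z).1 hz ?_
  rw [show z = 1 from mul_left_cancel₀ hc0 (hzc.trans (mul_one c).symm)]
  exact isUnit_one

/-- The only prime over the generic point inside the closed fibre prime is zero. -/
theorem eq_bot_of_le_map_C {σ V : Type u} [CommRing V] [IsDomain V] [ValuationRing V]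
    (q : Ideal (MvPolynomial σ V)) [hq : q.IsPrime] (h0 : q.comap MvPolynomial.C = ⊥)
    (hle : q ≤ (IsLocalRing.maximalIdeal V).map MvPolynomial.C) : q = ⊥ := by
  refine eq_bot_iff.2 fun f hf => ?_
  by_contra hne
  obtain ⟨c, g, hc, rfl, hg⟩ := exists_eq_C_mul f hne
  rcases hq.mem_or_mem hf with h | h
  · exact hc (by
      have : c ∈ q.comap MvPolynomial.C := h
      rwa [h0, Ideal.mem_bot] at this)
  · exact hg (hle h)

theorem isPrime_map_C {σ R : Type u} [CommRing R] (P : Ideal R) [P.IsPrime] :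
    (P.map (MvPolynomial.C : R →+* MvPolynomial σ R)).IsPrime := by
  rw [← Ideal.Quotient.isDomain_iff_prime]
  exact (MvPolynomial.quotientEquivQuotientMvPolynomial P).symm.injective.isDomain
    (MvPolynomial.quotientEquivQuotientMvPolynomial P).symm.toRingEquiv.toRingHom

/-- Polynomial rings over normal domains are normal. -/
theorem isIntegrallyClosed_mvPolynomial_fin (R : Type u) [CommRing R] [IsDomain R]
    [IsIntegrallyClosed R] : ∀ n : ℕ, IsIntegrallyClosed (MvPolynomial (Fin n) R)
  | 0 => IsIntegrallyClosed.of_equiv (MvPolynomial.isEmptyRingEquiv R (Fin 0)).symm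
  | n + 1 => by
    haveI := isIntegrallyClosed_mvPolynomial_fin R n
    exact IsIntegrallyClosed.of_equiv (MvPolynomial.finSuccEquiv R n).symm.toRingEquiv

theorem isIntegrallyClosed_mvPolynomial (σ R : Type u) [Finite σ] [CommRing R] [IsDomain R]
    [IsIntegrallyClosed R] : IsIntegrallyClosed (MvPolynomial σ R) := by
  obtain ⟨n, ⟨e⟩⟩ := Finite.exists_equiv_fin σ
  haveI := isIntegrallyClosed_mvPolynomial_fin R n
  exact IsIntegrallyClosed.of_equiv (MvPolynomial.renameEquiv R e).symm.toRingEquiv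

end Groth.Agent.QuasiSecLib
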