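import Groth.Prelude.Def_Grpd
import Groth.Agent.FinGrpdLib.Quot
import Groth.Agent.FinGrpdLib.Points2
import Groth.Agent.FpqcDesc.Stalk
import Mathlib.AlgebraicGeometry.Sites.Fpqc
import Mathlib.AlgebraicGeometry.Morphisms.FlatDescent

/-!
# Quotient of a groupoid scheme having a quasi-section
-/

set_option autoImplicit false
set_option backward.isDefEq.respectTransparency false

universe u

open CategoryTheory CategoryTheory.Limits AlgebraicGeometry
open Groth.Agent.FinGrpdLib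

noncomputable section

namespace Groth.Agent.QuasiSecLib

variable {S : Scheme.{u}} (G : Grpd.GroupoidScheme S) {U' : Scheme.{u}} (u : U' ⟶ G.U)

/-- Arrows with target in `U'`. -/
abbrev V : Scheme.{u} := pullback G.t u

/-- The source of an arrow with target in `U'`. -/
def σ : V G u ⟶ G.U := pullback.fst G.t u ≫ G.s

/-- Arrows with source and target in `U'`. -/
abbrev R' : Scheme.{u} := pullback (σ G u) u

/-- The inclusion of arrows. -/
def ρ : R' G u ⟶ G.R := pullback.fst (σ G u) u ≫ pullback.fst G.t u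

/-- The source. -/
def s' : R' G u ⟶ U' := pullback.snd (σ G u) u

/-- The target. -/
def t' : R' G u ⟶ U' := pullback.fst (σ G u) u ≫ pullback.snd G.t u

theorem ρ_s : ρ G u ≫ G.s = s' G u ≫ u := by
  rw [ρ, s', Category.assoc]
  exact pullback.condition

theorem ρ_t : ρ G u ≫ G.t = t' G u ≫ u := by
  rw [ρ, t', Category.assoc, Category.assoc, pullback.condition]

instance mono_ρ [Mono u] : Mono (ρ G u) := inferInstanceAs (Mono (_ ≫ _))

/-- An arrow between points of `U'`. -/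
def mkR {T : Scheme.{u}} (α : T ⟶ G.R) (a b : T ⟶ U') (ha : α ≫ G.s = a ≫ u) (hb : α ≫ G.t = b ≫ u) :
    T ⟶ R' G u :=
  pullback.lift (pullback.lift α b hb) a (by rw [σ, pullback.lift_fst_assoc, ha])

theorem mkR_ρ {T : Scheme.{u}} (α : T ⟶ G.R) (a b : T ⟶ U') (ha : α ≫ G.s = a ≫ u) (hb : α ≫ G.t = b ≫ u) :
    mkR G u α a b ha hb ≫ ρ G u = α := by
  rw [mkR, ρ, pullback.lift_fst_assoc, pullback.lift_fst]

theorem mkR_s {T : Scheme.{u}} (α : T ⟶ G.R) (a b : T ⟶ U') (ha : α ≫ G.s = a ≫ u) (hb : α ≫ G.t = b ≫ u) :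
    mkR G u α a b ha hb ≫ s' G u = a := pullback.lift_snd _ _ _

theorem mkR_t {T : Scheme.{u}} (α : T ⟶ G.R) (a b : T ⟶ U') (ha : α ≫ G.s = a ≫ u) (hb : α ≫ G.t = b ≫ u) :
    mkR G u α a b ha hb ≫ t' G u = b := by
  rw [mkR, t', pullback.lift_fst_assoc, pullback.lift_snd]

theorem comp_cond {T : Scheme.{u}} (α β : T ⟶ R' G u) (h : α ≫ s' G u = β ≫ t' G u) :
    (α ≫ ρ G u) ≫ G.s = (β ≫ ρ G u) ≫ G.t := by
  rw [Category.assoc, Category.assoc, ρ_s, ρ_t, reassoc_of% h]

/-- Composition of arrows between points of `U'`. -/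
def compR : pullback (s' G u) (t' G u) ⟶ R' G u :=
  mkR G u (mul G (pullback.fst _ _ ≫ ρ G u) (pullback.snd _ _ ≫ ρ G u) (comp_cond G u _ _ pullback.condition))
    (pullback.snd _ _ ≫ s' G u) (pullback.fst _ _ ≫ t' G u)
    (by rw [mul_s, Category.assoc, ρ_s, Category.assoc])
    (by rw [mul_t, Category.assoc, ρ_t, Category.assoc])

theorem compR_ρ {T : Scheme.{u}} (α β : T ⟶ R' G u) (h : α ≫ s' G u = β ≫ t' G u) :
    (pullback.lift α β h ≫ compR G u) ≫ ρ G u = mul G (α ≫ ρ G u) (β ≫ ρ G u) (comp_cond G u α β h) := by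
  rw [Category.assoc, compR, mkR_ρ, comp_mul]
  exact mul_congr (by rw [pullback.lift_fst_assoc]) (by rw [pullback.lift_snd_assoc]) _

/-- The identity arrows. -/
def eR : U' ⟶ R' G u :=
  mkR G u (u ≫ G.e) (𝟙 _) (𝟙 _) (by rw [Category.assoc, G.e_s, Category.comp_id, Category.id_comp])
    (by rw [Category.assoc, G.e_t, Category.comp_id, Category.id_comp])

/-- The inverse arrows. -/
def iR : R' G u ⟶ R' G u :=
  mkR G u (ρ G u ≫ G.i) (t' G u) (s' G u) (by rw [Category.assoc, G.i_s, ρ_t])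
    (by rw [Category.assoc, G.i_t, ρ_s])

theorem eR_ρ : eR G u ≫ ρ G u = u ≫ G.e := mkR_ρ _ _ _ _ _ _ _

theorem iR_ρ : iR G u ≫ ρ G u = ρ G u ≫ G.i := mkR_ρ _ _ _ _ _ _ _

/-- The groupoid induced on `U'`. -/
def res' [Mono u] : Grpd.GroupoidScheme S where
  U := U'
  R := R' G u
  pU := u ≫ G.pU
  pR := ρ G u ≫ G.pR
  s := s' G u
  t := t' G u
  e := eR G u
  i := iR G u
  c := compR G u
  s_over := by rw [← reassoc_of% (ρ_s G u), G.s_over]
  t_over := by rw [← reassoc_of% (ρ_t G u), G.t_over]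
  comp_s := fun α β h => by
    rw [compR, Category.assoc, mkR_s, pullback.lift_snd_assoc]
  comp_t := fun α β h => by
    rw [compR, Category.assoc, mkR_t, pullback.lift_fst_assoc]
  assoc := fun α β γ h₁ h₂ => by
    rw [← cancel_mono (ρ G u)]
    refine (compR_ρ _ _ _ _ _).trans (Eq.trans ?_ (compR_ρ _ _ _ _ _).symm)
    refine (mul_congr (compR_ρ G u α β h₁) rfl _).trans (Eq.trans ?_ (mul_congr rfl (compR_ρ G u β γ h₂) _).symm)
    exact G.assoc _ _ _ _ _
  e_s := mkR_s _ _ _ _ _ _ _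
  e_t := mkR_t _ _ _ _ _ _ _
  comp_e := fun α => by
    rw [← cancel_mono (ρ G u), compR_ρ, mul_congr rfl (show (α ≫ s' G u ≫ eR G u) ≫ ρ G u = (α ≫ ρ G u) ≫ G.s ≫ G.e by
      rw [Category.assoc, Category.assoc, eR_ρ, Category.assoc, reassoc_of% (ρ_s G u)])]
    exact G.comp_e _
  e_comp := fun α => by
    rw [← cancel_mono (ρ G u), compR_ρ, mul_congr (show (α ≫ t' G u ≫ eR G u) ≫ ρ G u = (α ≫ ρ G u) ≫ G.t ≫ G.e by
      rw [Category.assoc, Category.assoc, eR_ρ, Category.assoc, reassoc_of% (ρ_t G u)]) rfl]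
    exact G.e_comp _
  i_s := mkR_s _ _ _ _ _ _ _
  i_t := mkR_t _ _ _ _ _ _ _
  comp_i := fun α => by
    rw [← cancel_mono (ρ G u), compR_ρ, mul_congr rfl (show (α ≫ iR G u) ≫ ρ G u = (α ≫ ρ G u) ≫ G.i by
      rw [Category.assoc, iR_ρ, Category.assoc]), show (α ≫ t' G u ≫ eR G u) ≫ ρ G u = (α ≫ ρ G u) ≫ G.t ≫ G.e by
      rw [Category.assoc, Category.assoc, eR_ρ, Category.assoc, reassoc_of% (ρ_t G u)]]
    exact G.comp_i _
  i_comp := fun α => by
    rw [← cancel_mono (ρ G u), compR_ρ, mul_congr (show (α ≫ iR G u) ≫ ρ G u = (α ≫ ρ G u) ≫ G.i by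
      rw [Category.assoc, iR_ρ, Category.assoc]) rfl, show (α ≫ s' G u ≫ eR G u) ≫ ρ G u = (α ≫ ρ G u) ≫ G.s ≫ G.e by
      rw [Category.assoc, Category.assoc, eR_ρ, Category.assoc, reassoc_of% (ρ_s G u)]]
    exact G.i_comp _

/-- The induced groupoid of an equivalence relation is an equivalence relation. -/
theorem mono_j_res' [Mono u] [Mono G.j] : Mono (res' G u).j := by
  refine ⟨fun {T} (α β : T ⟶ R' G u) h => ?_⟩
  rw [← cancel_mono (ρ G u), ← cancel_mono G.j]
  have h1 := congrArg (· ≫ pullback.fst _ _) h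
  have h2 := congrArg (· ≫ pullback.snd _ _) h
  simp only [Grpd.GroupoidScheme.j, Category.assoc, pullback.lift_fst, pullback.lift_snd] at h1 h2
  change α ≫ t' G u = β ≫ t' G u at h1
  change α ≫ s' G u = β ≫ s' G u at h2
  apply pullback.hom_ext
  · simp only [Grpd.GroupoidScheme.j, Category.assoc, pullback.lift_fst]
    rw [ρ_t, reassoc_of% h1]
  · simp only [Grpd.GroupoidScheme.j, Category.assoc, pullback.lift_snd]
    rw [ρ_s, reassoc_of% h2]

end Groth.Agent.QuasiSecLib
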