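import Groth.Agent.QFinLib
import Groth.Agent.DimFormulaLib.Field
import Groth.Agent.LocCohLib.Vanishing
import Groth.Agent.LocDimBC.Scheme
import Groth.Prelude.Def_Flat
/-!
Coordinates around a closed point of a fibre giving a map to affine space quasi-finite at the point.
-/

set_option autoImplicit false
set_option backward.isDefEq.respectTransparency false
set_option backward.isDefEq.respectTransparency.types false
set_option linter.style.haveILetI false

universe u

open CategoryTheory CategoryTheory.Limits AlgebraicGeometry TopologicalSpace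

noncomputable section

namespace Groth.Agent.QuasiSecLib

/-- The generisation at which generators of the maximal ideal all vanish is the point itself. -/
theorem eq_of_radical_generators {F : Scheme.{u}} {x w : F} (h : w ⤳ x) {ι : Type*}
    (φ : ι → F.presheaf.stalk x)
    (hφ : (IsLocalRing.maximalIdeal (F.presheaf.stalk x)).radical = (Ideal.span (Set.range φ)).radical)
    (hw : ∀ i, ¬ IsUnit (F.presheaf.stalkSpecializes h (φ i))) : w = x := by
  let γ := F.presheaf.stalkSpecializes h
  have hle : IsLocalRing.maximalIdeal (F.presheaf.stalk x) ≤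
      (IsLocalRing.maximalIdeal (F.presheaf.stalk w)).comap γ.hom := by
    refine Ideal.le_radical.trans (hφ.le.trans ((Ideal.IsPrime.radical_le_iff inferInstance).2 ?_))
    rw [Ideal.span_le]
    rintro _ ⟨i, rfl⟩
    exact hw i
  have heq : Spec.map γ (IsLocalRing.closedPoint _) = IsLocalRing.closedPoint _ :=
    PrimeSpectrum.ext ((IsLocalRing.maximalIdeal.isMaximal _).eq_of_le
      (Ideal.IsPrime.ne_top inferInstance) hle).symm
  have := congrArg (fun m => m (IsLocalRing.closedPoint (F.presheaf.stalk w)))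
    (Scheme.SpecMap_stalkSpecializes_fromSpecStalk (X := F) h)
  simp only [Scheme.Hom.comp_apply] at this
  rw [Scheme.fromSpecStalk_closedPoint] at this
  refine this.symm.trans ?_
  erw [heq]
  exact Scheme.fromSpecStalk_closedPoint

variable {X S : Scheme.{u}}

/-- Near a closed point of a fibre of local dimension `n` there are `n` functions vanishing at it defining a map
to affine `n`-space over the base that is quasi-finite at the point. -/
theorem exists_coords (f : X ⟶ S) [LocallyOfFiniteType f] (x : X) (n : ℕ)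
    (hcl : IsClosed ({f.asFiber x} : Set ↥(f.fiber (f x))))
    (hdim : FlatMor.localDim ↥(f.fiber (f x)) (f.asFiber x) = n) :
    ∃ (U : X.Opens) (hxU : x ∈ U) (v : ULift.{u} (Fin n) → Γ(U.toScheme, ⊤)),
      (∀ i, (⟨x, hxU⟩ : U.toScheme) ∉ U.toScheme.basicOpen (v i)) ∧
      (AffineSpace.homOfVector (U.ι ≫ f) v).QuasiFiniteAt ⟨x, hxU⟩ := by
  classical
  let F := f.fiber (f x)
  let ι := f.fiberι (f x)
  let xF : F := f.asFiber x
  have hxF : ι xF = x := f.fiberι_asFiber x
  haveI : LocallyOfFiniteType (f.fiberToSpecResidueField (f x)) :=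
    MorphismProperty.pullback_snd _ _ inferInstance
  have hB : ringKrullDim (F.presheaf.stalk xF) ≤ (n : WithBot ℕ∞) := by
    rw [← DimFormulaLib.localDim_eq_of_isClosed (k := S.residueField (f x))
      (f.fiberToSpecResidueField (f x)) xF hcl, hdim]
  obtain ⟨φ, hφm, hφ⟩ := LocCohLib.exists_radical_generators n hB
    (IsLocalRing.maximalIdeal (F.presheaf.stalk xF)) (Ideal.IsMaximal.ne_top inferInstance)
  choose b hb using fun i => ι.stalkMap_surjective xF (φ i)
  choose W hW g hg using fun i => X.presheaf.exists_germ_eq (b i)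
  let U : X.Opens := ⨅ i, W i
  have hxU' : ι xF ∈ U := by
    show ι xF ∈ ((⨅ i, W i : X.Opens) : Set X)
    rw [Opens.coe_iInf]
    exact Set.mem_iInter.2 hW
  have hxU : x ∈ U := hxF ▸ hxU'
  let g' : Fin n → Γ(X, U) := fun i => X.presheaf.map (homOfLE (iInf_le W i)).op (g i)
  have hg' : ∀ i, ι.stalkMap xF (X.presheaf.germ U (ι xF) hxU' (g' i)) = φ i := fun i => by
    rw [X.presheaf.germ_res_apply, hg, hb]
  let v : ULift.{u} (Fin n) → Γ(U.toScheme, ⊤) := fun i => U.topIso.inv (g' i.down)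
  have hbo : ∀ (i : Fin n) (w : U.toScheme), w ∈ U.toScheme.basicOpen (v ⟨i⟩) ↔ w.1 ∈ X.basicOpen (g' i) :=
    fun i w => by
    rw [← U.ι_image_basicOpen_topIso_inv (g' i)]
    exact (Function.Injective.mem_set_image U.ι.isOpenEmbedding.injective).symm
  have hv0 : ∀ i, (⟨x, hxU⟩ : U.toScheme) ∉ U.toScheme.basicOpen (v i) := fun ⟨i⟩ h => by
    have h1 : ι xF ∈ X.basicOpen (g' i) := hxF.symm ▸ (hbo i _).1 h
    rw [Scheme.mem_basicOpen _ _ _ hxU'] at h1
    have := h1.map (ι.stalkMap xF).hom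
    rw [hg'] at this
    exact (IsLocalRing.mem_maximalIdeal _).1 (hφm i) this
  refine ⟨U, hxU, v, hv0, ?_⟩
  let x₀ : U.toScheme := ⟨x, hxU⟩
  let uu := AffineSpace.homOfVector (U.ι ≫ f) v
  show uu.QuasiFiniteAt x₀
  have huo : uu ≫ (𝔸(ULift.{u} (Fin n); S) ↘ S) = U.ι ≫ f := AffineSpace.homOfVector_over _ _
  haveI : LocallyOfFiniteType (uu ≫ (𝔸(ULift.{u} (Fin n); S) ↘ S)) := by rw [huo]; infer_instance
  haveI : LocallyOfFiniteType uu := locallyOfFiniteType_of_comp uu (𝔸(ULift.{u} (Fin n); S) ↘ S)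
  rw [QFinLib.quasiFiniteAt_iff_isClosed]
  have hι : uu.fiberι (uu x₀) (uu.asFiber x₀) = x₀ := uu.fiberι_asFiber x₀
  have hfz : ∀ z : ↥(uu.fiber (uu x₀)), uu (uu.fiberι (uu x₀) z) = uu x₀ := fun z => by
    have : uu.fiberι (uu x₀) z ∈ Set.range (uu.fiberι (uu x₀)) := ⟨z, rfl⟩
    rwa [Scheme.Hom.range_fiberι] at this
  -- points of the fibre of the coordinate map lie in the fibre of `f`
  have hfib : ∀ z : ↥(uu.fiber (uu x₀)), ∃ w : F, ι w = (uu.fiberι (uu x₀) z).1 := fun z => by
    have h1 : f (uu.fiberι (uu x₀) z).1 = f x := by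
      show (U.ι ≫ f) (uu.fiberι (uu x₀) z) = (U.ι ≫ f) x₀
      rw [← huo, Scheme.Hom.comp_apply, Scheme.Hom.comp_apply, hfz z]
    have h2 : (uu.fiberι (uu x₀) z).1 ∈ f ⁻¹' {f x} := h1
    rw [← Scheme.Hom.range_fiberι] at h2
    exact h2
  have back : ∀ z, (uu.fiberι (uu x₀) z).1 = x → z = uu.asFiber x₀ := fun z h =>
    QFinLib.fiberι_injective uu _ ((Subtype.ext h : uu.fiberι (uu x₀) z = x₀).trans hι.symm)
  refine ⟨?_, fun z hz => ?_⟩
  · rw [← closure_subset_iff_isClosed]
    intro z hz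
    rw [← specializes_iff_mem_closure] at hz
    obtain ⟨w, hw⟩ := hfib z
    refine back z ?_
    have h1 := (hz.map (uu.fiberι (uu x₀)).continuous).map U.ι.continuous
    rw [hι] at h1
    rw [show U.ι (uu.fiberι (uu x₀) z) = ι w from hw.symm, show U.ι x₀ = ι xF from hxF.symm] at h1
    have h2 : w = xF := (ι.isEmbedding.isInducing.specializes_iff.1 h1).mem_closed hcl rfl
    rw [← hw, h2, hxF]
  · obtain ⟨w, hw⟩ := hfib z
    refine back z ?_
    have h1 := (hz.map (uu.fiberι (uu x₀)).continuous).map U.ι.continuous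
    rw [hι] at h1
    rw [show U.ι (uu.fiberι (uu x₀) z) = ι w from hw.symm, show U.ι x₀ = ι xF from hxF.symm] at h1
    have hwx : w ⤳ xF := ι.isEmbedding.isInducing.specializes_iff.1 h1
    suffices h2 : w = xF by rw [← hw, h2, hxF]
    refine eq_of_radical_generators hwx φ hφ fun i hu => hv0 ⟨i⟩ ?_
    -- a coordinate invertible at `z` is invertible at `x`
    have hwU : ι w ∈ U := hw ▸ (uu.fiberι (uu x₀) z).2
    have key : F.presheaf.stalkSpecializes hwx (φ i) =
        ι.stalkMap w (X.presheaf.germ U (ι w) hwU (g' i)) := by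
      rw [← hg' i, Scheme.Hom.germ_stalkMap_apply, Scheme.Hom.germ_stalkMap_apply]
      exact congrArg (fun m => m (ι.app U (g' i))) (TopCat.Presheaf.germ_stalkSpecializes F.presheaf _ hwx)
    rw [key] at hu
    have h3 : (uu.fiberι (uu x₀) z) ∈ U.toScheme.basicOpen (v ⟨i⟩) := by
      rw [hbo, ← hw, Scheme.mem_basicOpen _ _ _ hwU]
      exact IsLocalHom.map_nonunit _ hu
    have hco : U.toScheme.basicOpen (v ⟨i⟩) =
        uu ⁻¹ᵁ 𝔸(ULift.{u} (Fin n); S).basicOpen (AffineSpace.coord S ⟨i⟩) := by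
      rw [Scheme.Hom.preimage_basicOpen_top, AffineSpace.homOfVector_appTop_coord]
    rw [hco] at h3 ⊢
    show uu x₀ ∈ 𝔸(ULift.{u} (Fin n); S).basicOpen (AffineSpace.coord S ⟨i⟩)
    rw [← hfz z]
    exact h3

end Groth.Agent.QuasiSecLib
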