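import Groth.Agent.FlatDim.Trdeg
import Groth.Agent.DimFormulaLib.Irreducible

/-!
Transcendence degrees bounded by dimensions of fibres.
-/

set_option autoImplicit false
set_option linter.style.haveILetI false

universe u

open CategoryTheory AlgebraicGeometry TopologicalSpace

namespace Groth.Agent.QuasiSecLib

open DimFormulaLib

variable {X Y : Scheme.{u}} (f : X ⟶ Y) [LocallyOfFiniteType f]

theorem exists_trdeg_closure (y : Y) (z : f.fiber y) :
    ∃ t : ℕ, resTrdegAt f (f.fiberι y z) = t ∧ topologicalKrullDim ↥(closure ({z} : Set ↥(f.fiber y))) = t := by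
  haveI : LocallyOfFiniteType (Y := Spec (CommRingCat.of (Y.residueField y))) (f.fiberToSpecResidueField y) :=
    MorphismProperty.pullback_snd _ _ inferInstance
  obtain ⟨t, ht, hd⟩ := FlatDim.topologicalKrullDim_closure (Y.residueField y) (f.fiberToSpecResidueField y) z
  exact ⟨t, (FlatDim.resTrdegAt_fibre f y z).symm.trans ht, hd⟩

/-- Transcendence degrees are bounded by the dimension of the fibre. -/
theorem trdeg_le_dim (x : X) (y : Y) (hx : f x = y) (t : ℕ) (ht : resTrdegAt f x = t) :
    (t : WithBot ℕ∞) ≤ topologicalKrullDim ↥(f.fiber y) := by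
  subst hx
  obtain ⟨t', ht', hd⟩ := exists_trdeg_closure f _ (f.asFiber x)
  rw [f.fiberι_asFiber, ht] at ht'
  rw [show t = t' by exact_mod_cast ht', ← hd]
  exact topologicalKrullDim_subspace_le _ _

/-- In a fibre all whose components have dimension `e`: bound, with equality at maximal points. -/
theorem trdeg_le_components (x : X) (e : ℕ)
    (hdim : ∀ Z ∈ irreducibleComponents (↥(f.fiber (f x)) : Type u), topologicalKrullDim (↥Z : Type u) = e)
    (t : ℕ) (ht : resTrdegAt f x = t) :
    t ≤ e ∧ ((∀ w : X, w ⤳ x → f w = f x → w = x) → t = e) := by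
  obtain ⟨t', ht', hd⟩ := exists_trdeg_closure f _ (f.asFiber x)
  rw [f.fiberι_asFiber, ht] at ht'
  have htt : t = t' := by exact_mod_cast ht'
  subst htt
  obtain ⟨η, hηz, hη⟩ := exists_maximal_point (f.asFiber x)
  have he := hdim _ (closure_mem_irreducibleComponents hη)
  constructor
  · have hmono : topologicalKrullDim ↥(closure ({f.asFiber x} : Set ↥(f.fiber (f x)))) ≤
        topologicalKrullDim ↥(closure ({η} : Set ↥(f.fiber (f x)))) := by
      rw [topologicalKrullDim_closure_singleton, topologicalKrullDim_closure_singleton]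
      exact WithBot.coe_le_coe.2 (Order.height_mono (Scheme.le_iff_specializes.2 hηz))
    rw [hd, he] at hmono
    exact_mod_cast hmono
  · intro hmax
    have h1 := hmax (f.fiberι (f x) η) (by have h := hηz.map (f.fiberι (f x)).continuous; rwa [f.fiberι_asFiber] at h) (by
      have h : f.fiberι (f x) η ∈ Set.range (f.fiberι (f x)) := ⟨η, rfl⟩
      rw [f.range_fiberι] at h
      exact h)
    have h2 : η = f.asFiber x := (f.fiberι (f x)).isEmbedding.injective (h1.trans (f.fiberι_asFiber x).symm)
    rw [h2, hd] at he
    exact_mod_cast he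

end Groth.Agent.QuasiSecLib
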