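import Mathlib
import Groth.Agent.ClosedBetween.Valuation

/-!
A point quasi-finite over affine space on the coordinate subspace generalizes into the generic fibre inside it.
-/

set_option autoImplicit false

universe u

open MvPolynomial

attribute [local instance] MvPolynomial.algebraMvPolynomial

namespace Groth.Agent.QuasiSecLib

variable {A B : Type u} [CommRing A] [CommRing B] [IsDomain A] [IsDomain B] [Algebra A B] [Algebra.FiniteType A B]

set_option maxHeartbeats 800000 in
/-- The core: the normalisation of the base is given. -/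
theorem exists_generization_core (L : Type u) [Field L] [Algebra B L] [IsFractionRing B L]
    (A' : Type u) [CommRing A'] [IsDomain A'] [IsIntegrallyClosed A'] [Algebra A A']
    (hAA' : (algebraMap A A').IsIntegral) (hinj : Function.Injective (algebraMap A A')) {n : ℕ}
    (φ : MvPolynomial (Fin n) A →ₐ[A] B)
    (ψ : MvPolynomial (Fin n) A' →+* L) (hψ : Function.Injective ψ)
    (hψφ : ψ.comp (map (algebraMap A A')) = (algebraMap B L).comp φ.toRingHom)
    (hψX : ∀ i, ψ (X i) = algebraMap B L (φ (X i)))
    (q : Ideal B) [q.IsPrime]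
    (hqf : letI := φ.toRingHom.toAlgebra; Algebra.QuasiFiniteAt (MvPolynomial (Fin n) A) q)
    (s : Set (Fin n)) (hs : ∀ i ∈ s, φ (X i) ∈ q) :
    ∃ q' : Ideal B, q'.IsPrime ∧ q' ≤ q ∧ q'.comap (algebraMap A B) = ⊥ ∧ ∀ i ∈ s, φ (X i) ∈ q' := by
  classical
  letI := φ.toRingHom.toAlgebra
  haveI := hqf
  haveI : IsScalarTower A (MvPolynomial (Fin n) A) B := .of_algebraMap_eq fun a => (φ.commutes a).symm
  haveI : Algebra.FiniteType (MvPolynomial (Fin n) A) B := Algebra.FiniteType.of_restrictScalars_finiteType A _ _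
  haveI : IsIntegrallyClosed (MvPolynomial (Fin n) A') := ClosedBetween.isIntegrallyClosed_mvPolynomial A' n
  let C₁ := integralClosure (MvPolynomial (Fin n) A) B
  obtain ⟨r, hrq, hbij⟩ := Algebra.ZariskisMainProperty.of_finiteType (R := MvPolynomial (Fin n) A) q
  letI : Algebra (MvPolynomial (Fin n) A') L := ψ.toAlgebra
  letI : Algebra (MvPolynomial (Fin n) A) L := ((algebraMap B L).comp φ.toRingHom).toAlgebra
  haveI : IsScalarTower (MvPolynomial (Fin n) A) (MvPolynomial (Fin n) A') L := .of_algebraMap_eq' hψφ.symm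
  haveI : IsScalarTower (MvPolynomial (Fin n) A) B L := .of_algebraMap_eq' rfl
  haveI : FaithfulSMul (MvPolynomial (Fin n) A') L := (faithfulSMul_iff_algebraMap_injective _ _).2 hψ
  let C₂ : Subalgebra (MvPolynomial (Fin n) A') L := integralClosure (MvPolynomial (Fin n) A') L
  haveI : FaithfulSMul (MvPolynomial (Fin n) A') C₂ :=
    (faithfulSMul_iff_algebraMap_injective _ _).2 fun x y h => hψ (congrArg Subtype.val h)
  haveI : Algebra.IsIntegral (MvPolynomial (Fin n) A') C₂ := integralClosure.AlgebraIsIntegral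
  haveI : Algebra.HasGoingDown (MvPolynomial (Fin n) A') C₂ := inferInstance
  let j : C₁ →+* C₂ := ((algebraMap B L).comp C₁.val.toRingHom).codRestrict C₂.toSubring fun c => by
    show IsIntegral (MvPolynomial (Fin n) A') (algebraMap B L c.1)
    exact ((c.2 : IsIntegral (MvPolynomial (Fin n) A) c.1).algebraMap (B := L)).tower_top
  have hj : Function.Injective j := fun a b h => Subtype.ext (IsFractionRing.injective B L (congrArg Subtype.val h))
  have hmapInt : (map (algebraMap A A') : MvPolynomial (Fin n) A →+* MvPolynomial (Fin n) A').IsIntegral := by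
    intro z
    induction z using MvPolynomial.induction_on with
    | C a =>
      obtain ⟨p, hp, hp0⟩ := hAA' a
      refine ⟨p.map C, hp.map _, ?_⟩
      rw [Polynomial.eval₂_map, show (map (algebraMap A A')).comp (C (σ := Fin n)) = C.comp (algebraMap A A') from
        RingHom.ext fun x => map_C _ _, ← Polynomial.hom_eval₂, hp0, map_zero]
    | add z w hz hw => exact hz.add _ hw
    | mul_X z i hz =>
      refine hz.mul _ ?_
      rw [← map_X (algebraMap A A') i]
      exact RingHom.isIntegralElem_map _
  haveI : Algebra.IsIntegral (MvPolynomial (Fin n) A) (MvPolynomial (Fin n) A') := ⟨hmapInt⟩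
  letI : Algebra C₁ C₂ := j.toAlgebra
  haveI : FaithfulSMul C₁ C₂ := (faithfulSMul_iff_algebraMap_injective _ _).2 hj
  haveI : IsScalarTower (MvPolynomial (Fin n) A) C₁ C₂ := .of_algebraMap_eq fun z => Subtype.ext rfl
  haveI : IsScalarTower (MvPolynomial (Fin n) A) (MvPolynomial (Fin n) A') C₂ := .of_algebraMap_eq fun z =>
    Subtype.ext (RingHom.congr_fun hψφ z).symm
  haveI : Algebra.IsIntegral (MvPolynomial (Fin n) A) C₂ := Algebra.IsIntegral.trans (MvPolynomial (Fin n) A')
  haveI : Algebra.IsIntegral C₁ C₂ := ⟨fun x => (Algebra.IsIntegral.isIntegral (R := MvPolynomial (Fin n) A) x).tower_top⟩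
  obtain ⟨Q', -, hQ'1, hQ'⟩ := Ideal.exists_ideal_over_prime_of_isIntegral (q.comap C₁.val.toRingHom) (⊥ : Ideal C₂) (by
    show Ideal.comap j ⊥ ≤ _
    rw [Ideal.comap_bot_of_injective _ hj]; exact bot_le)
  -- the coordinate prime over the generic point
  let gs : MvPolynomial (Fin n) A' →+* MvPolynomial (Fin n) A' := eval₂Hom C fun i => if i ∈ s then 0 else X i
  let P := Q'.comap (algebraMap (MvPolynomial (Fin n) A') C₂)
  haveI := hQ'1
  have hXP : ∀ i ∈ s, (X i : MvPolynomial (Fin n) A') ∈ P := by
    intro i hi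
    have hint : IsIntegral (MvPolynomial (Fin n) A) (φ (X i)) := isIntegral_algebraMap (x := (X i : MvPolynomial (Fin n) A))
    have h : algebraMap (MvPolynomial (Fin n) A') C₂ (X i) = algebraMap C₁ C₂ ⟨φ (X i), hint⟩ := Subtype.ext (hψX i)
    show algebraMap _ C₂ (X i) ∈ Q'
    rw [h]
    have hmem : (⟨φ (X i), hint⟩ : C₁) ∈ q.comap C₁.val.toRingHom := hs i hi
    exact hQ'.ge hmem
  have hker : RingHom.ker gs ≤ P := by
    have key : ∀ z, z - gs z ∈ P := fun z => by
      induction z using MvPolynomial.induction_on with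
      | C a => simp [gs]
      | add z w hz hw => rw [map_add, add_sub_add_comm]; exact add_mem hz hw
      | mul_X z i hz =>
        have hgX : gs (X i) = if i ∈ s then 0 else X i := eval₂Hom_X' _ _ i
        rw [map_mul, hgX]
        by_cases hi : i ∈ s
        · rw [if_pos hi, mul_zero, sub_zero]; exact P.mul_mem_left _ (hXP i hi)
        · rw [if_neg hi, ← sub_mul]; exact P.mul_mem_right _ hz
    intro z hz
    have := key z
    rwa [RingHom.mem_ker.1 hz, sub_zero] at this
  haveI : (RingHom.ker gs).IsPrime := RingHom.ker_isPrime gs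
  haveI : Q'.LiesOver P := ⟨rfl⟩
  obtain ⟨Q'', hle, hQ''1, hQ''⟩ := Ideal.exists_ideal_le_liesOver_of_le (p := RingHom.ker gs) Q' hker
  haveI := hQ''1
  let q₁ := Q''.comap (algebraMap C₁ C₂)
  haveI : q₁.IsPrime := Ideal.IsPrime.comap _
  have hq₁ : q₁ ≤ q.comap C₁.val.toRingHom := fun z hz => hQ'.le (Ideal.comap_mono hle hz)
  have hrq₁ : r ∉ q₁ := fun h => hrq (hq₁ h)
  let e := RingEquiv.ofBijective _ hbij
  let ρ : B →+* Localization.Away r := e.symm.toRingHom.comp (algebraMap B (Localization.Away r.1))
  have hρ : ∀ c : C₁, ρ c.1 = algebraMap C₁ (Localization.Away r) c := fun c => by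
    show e.symm (algebraMap B _ c.1) = _
    rw [RingEquiv.symm_apply_eq]
    show algebraMap B (Localization.Away r.1) c.1 = Localization.awayMap C₁.val.toRingHom r (algebraMap C₁ (Localization.Away r) c)
    unfold Localization.awayMap IsLocalization.Away.map
    rw [IsLocalization.map_eq]
    rfl
  have hdisj : Disjoint (Submonoid.powers r : Set C₁) (q₁ : Set C₁) := Set.disjoint_left.2 fun _ hz hzq => by
    obtain ⟨k, rfl⟩ := hz
    exact hrq₁ (Ideal.IsPrime.mem_of_pow_mem inferInstance k hzq)
  haveI := IsLocalization.isPrime_of_isPrime_disjoint (Submonoid.powers r) (Localization.Away r) q₁ inferInstance hdisj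
  let q' := (q₁.map (algebraMap C₁ (Localization.Away r))).comap ρ
  have hq'c : ∀ c : C₁, c.1 ∈ q' ↔ c ∈ q₁ := fun c => by
    refine Ideal.mem_comap.trans ?_
    rw [hρ]
    exact SetLike.ext_iff.1 (IsLocalization.under_map_of_isPrime_disjoint (Submonoid.powers r) (Localization.Away r) (I := q₁) inferInstance hdisj) c
  refine ⟨q', Ideal.IsPrime.comap _, fun x hx => ?_, ?_, fun i hi => ?_⟩
  · obtain ⟨c, m, hc⟩ := Localization.awayMap_surjective_iff.1 hbij.2 x
    have h1 : c ∈ q₁ := by
      refine (hq'c c).1 ?_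
      rw [show (c : B) = r.1 ^ m * x from hc]
      exact q'.mul_mem_left _ hx
    have h2 : r.1 ^ m * x ∈ q := hc ▸ hq₁ h1
    exact (‹q.IsPrime›.mem_or_mem h2).resolve_left fun h => hrq (‹q.IsPrime›.mem_of_pow_mem m h)
  · refine eq_bot_iff.2 fun a ha => ?_
    have hint : IsIntegral (MvPolynomial (Fin n) A) (algebraMap A B a) :=
      (φ.commutes a) ▸ (isIntegral_algebraMap (x := algebraMap A (MvPolynomial (Fin n) A) a) : IsIntegral (MvPolynomial (Fin n) A) (φ (algebraMap A _ a)))
    have h1 : algebraMap C₁ C₂ ⟨_, hint⟩ ∈ Q'' := (hq'c ⟨_, hint⟩).1 ha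
    have h2 : algebraMap C₁ C₂ ⟨_, hint⟩ = algebraMap (MvPolynomial (Fin n) A') C₂ (C (algebraMap A A' a)) := Subtype.ext (by
      show algebraMap B L (algebraMap A B a) = ψ (C (algebraMap A A' a))
      rw [← map_C (algebraMap A A') a, show ψ (map (algebraMap A A') (C a)) = algebraMap B L (φ (C a)) from
        RingHom.congr_fun hψφ (C a), show φ (C a) = algebraMap A B a from φ.commutes a])
    rw [h2] at h1
    have h3 : gs (C (algebraMap A A' a)) = 0 := RingHom.mem_ker.1 (hQ''.over.ge h1)
    rw [show gs (C (algebraMap A A' a)) = C (algebraMap A A' a) from eval₂Hom_C _ _ _, C_eq_zero] at h3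
    exact hinj (h3.trans (map_zero _).symm)
  · have hint : IsIntegral (MvPolynomial (Fin n) A) (φ (X i)) := isIntegral_algebraMap (x := (X i : MvPolynomial (Fin n) A))
    refine (hq'c ⟨φ (X i), hint⟩).2 ?_
    show algebraMap C₁ C₂ ⟨φ (X i), hint⟩ ∈ Q''
    rw [show algebraMap C₁ C₂ ⟨φ (X i), hint⟩ = algebraMap (MvPolynomial (Fin n) A') C₂ (X i) from
      Subtype.ext (hψX i).symm]
    refine hQ''.over.le (RingHom.mem_ker.2 ?_)
    show gs (X i) = 0
    rw [show gs (X i) = if i ∈ s then 0 else X i from eval₂Hom_X' _ _ i, if_pos hi]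

set_option maxHeartbeats 800000 in
/-- Generalize a point of the preimage of a coordinate subspace into the generic fibre. -/
theorem exists_generization_aux (L : Type u) [Field L] [Algebra B L] [IsFractionRing B L] {n : ℕ} (φ : MvPolynomial (Fin n) A →ₐ[A] B) (hφ : Function.Injective φ)
    (q : Ideal B) [q.IsPrime]
    (hqf : letI := φ.toRingHom.toAlgebra; Algebra.QuasiFiniteAt (MvPolynomial (Fin n) A) q)
    (s : Set (Fin n)) (hs : ∀ i ∈ s, φ (X i) ∈ q) :
    ∃ q' : Ideal B, q'.IsPrime ∧ q' ≤ q ∧ q'.comap (algebraMap A B) = ⊥ ∧ ∀ i ∈ s, φ (X i) ∈ q' := by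
  classical
  have hAB : Function.Injective (algebraMap A B) := fun a b h =>
    MvPolynomial.C_injective _ _ (hφ ((φ.commutes a).trans (h.trans (φ.commutes b).symm)))
  -- the field of fractions and the normalisation of the base
  let K := FractionRing A
  have hAL : Function.Injective ((algebraMap B L).comp (algebraMap A B)) := (IsFractionRing.injective B L).comp hAB
  let kL : K →+* L := IsFractionRing.lift hAL
  let A' := integralClosure A K
  haveI : IsIntegrallyClosed A' := integralClosure.isIntegrallyClosedOfFiniteExtension K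
  let ψ : MvPolynomial (Fin n) A' →+* L :=
    eval₂Hom (kL.comp A'.val.toRingHom) fun i => algebraMap B L (φ (X i))
  have hψφ : ψ.comp (map (algebraMap A A')) = (algebraMap B L).comp φ.toRingHom := by
    refine ringHom_ext (fun a => ?_) fun i => ?_
    · simp only [RingHom.comp_apply, map_C, ψ, eval₂Hom_C]
      show kL (algebraMap A K a) = algebraMap B L (φ (C a))
      rw [IsFractionRing.lift_algebraMap, show φ (C a) = algebraMap A B a from φ.commutes a]
      rfl
    · simp [ψ]
  have hψ : Function.Injective ψ := by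
    rw [injective_iff_map_eq_zero]
    intro z hz
    haveI := MvPolynomial.isLocalization (σ := Fin n) (nonZeroDivisors A) K
    let ψK : MvPolynomial (Fin n) K →+* L := eval₂Hom kL fun i => algebraMap B L (φ (X i))
    have hψK : Function.Injective ψK := by
      rw [injective_iff_map_eq_zero]
      intro w hw
      obtain ⟨⟨u, ⟨d, hd⟩⟩, hu⟩ := IsLocalization.surj ((nonZeroDivisors A).map (C (σ := Fin n))) w
      have hmap : ψK.comp (map (algebraMap A K)) = (algebraMap B L).comp φ.toRingHom := by
        refine ringHom_ext (fun a => ?_) fun i => ?_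
        · simp only [RingHom.comp_apply, map_C, ψK, eval₂Hom_C]
          rw [IsFractionRing.lift_algebraMap, show φ.toRingHom (C a) = algebraMap A B a from φ.commutes a]
          rfl
        · simp [ψK]
      have h0 : ψK (map (algebraMap A K) u) = 0 := by
        have := congrArg ψK hu
        rw [map_mul, hw, zero_mul] at this
        exact this.symm
      have h1 : u = 0 := hφ ((IsFractionRing.injective B L) (by
        rw [map_zero, map_zero]
        exact (RingHom.congr_fun hmap u).symm.trans h0))
      have hu0 : w * map (algebraMap A K) d = 0 := by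
        refine hu.trans ?_
        rw [h1, map_zero]
      refine (mul_eq_zero.1 hu0).resolve_right fun hd0 => ?_
      obtain ⟨a, ha, rfl⟩ := Submonoid.mem_map.1 hd
      rw [map_C, C_eq_zero] at hd0
      exact nonZeroDivisors.ne_zero ha ((map_eq_zero_iff _ (IsFractionRing.injective A K)).1 hd0)
    have hfac : ψK.comp (map A'.val.toRingHom) = ψ := ringHom_ext (fun a => by simp [ψK, ψ]) fun i => by simp [ψK, ψ]
    refine map_injective A'.val.toRingHom Subtype.val_injective (hψK ?_)
    rw [map_zero, map_zero]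
    exact (RingHom.congr_fun hfac z).trans hz
  exact exists_generization_core L A' (fun a => (integralClosure.AlgebraIsIntegral (R := A) (A := K)).isIntegral a)
    (fun a b h => IsFractionRing.injective A K (congrArg Subtype.val h)) φ ψ hψ hψφ (fun i => eval₂Hom_X' _ _ i) q hqf s hs

/-- Generalize a point of the preimage of a coordinate subspace into the generic fibre. -/
theorem exists_generization {n : ℕ} (φ : MvPolynomial (Fin n) A →ₐ[A] B) (hφ : Function.Injective φ)
    (q : Ideal B) [q.IsPrime]
    (hqf : letI := φ.toRingHom.toAlgebra; Algebra.QuasiFiniteAt (MvPolynomial (Fin n) A) q)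
    (s : Set (Fin n)) (hs : ∀ i ∈ s, φ (X i) ∈ q) :
    ∃ q' : Ideal B, q'.IsPrime ∧ q' ≤ q ∧ q'.comap (algebraMap A B) = ⊥ ∧ ∀ i ∈ s, φ (X i) ∈ q' :=
  exists_generization_aux (FractionRing B) φ hφ q hqf s hs

end Groth.Agent.QuasiSecLib
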