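import Groth.Agent.QuasiSecLib.Basic

/-!
# The quotient by a groupoid with a quasi-section
-/

set_option autoImplicit false
set_option backward.isDefEq.respectTransparency false

universe u

open CategoryTheory CategoryTheory.Limits AlgebraicGeometry
open Groth.Agent.FinGrpdLib

noncomputable section

namespace Groth.Agent.QuasiSecLib

variable {S : Scheme.{u}} (G : Grpd.GroupoidScheme S) {U' : Scheme.{u}} (u : U' ⟶ G.U)

/-- The classes in `U'` lie in affine opens. -/
theorem orbitsAffine_res' [Mono u]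
    (h2 : ∀ E : Set U', (∀ x ∈ E, ∀ y ∈ E, ∃ r : G.R, G.t.base r = u.base x ∧ G.s.base r = u.base y) →
      ∃ W : U'.Opens, IsAffineOpen W ∧ E ⊆ (W : Set U')) :
    OrbitsAffine (res' G u) := fun x => by
  obtain ⟨W, hW, hsub⟩ := h2 {y : U' | Rel (res' G u) y x} fun a ha b hb => by
    obtain ⟨r, hr1, hr2⟩ := Rel.trans ha (Rel.symm hb)
    change (R' G u : Scheme.{u}) at r
    refine ⟨ρ G u r, ?_, ?_⟩
    · rw [← Scheme.Hom.comp_apply, ρ_t, Scheme.Hom.comp_apply]
      exact congrArg u.base hr1
    · rw [← Scheme.Hom.comp_apply, ρ_s, Scheme.Hom.comp_apply]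
      exact congrArg u.base hr2
  exact ⟨W, hW, fun y hy => hsub hy⟩

/-- The base change of an open map to a set of the target, along an immersion. -/
theorem isOpenMap_snd [IsImmersion u] (ht : IsOpenMap G.t.base) :
    IsOpenMap (pullback.snd G.t u).base := fun O hO => by
  haveI : IsImmersion (pullback.fst G.t u) := inferInstance
  obtain ⟨B, hB, rfl⟩ := (pullback.fst G.t u).isEmbedding.isOpen_iff.1 hO
  have : (pullback.snd G.t u).base '' ((pullback.fst G.t u).base ⁻¹' B) = u.base ⁻¹' (G.t.base '' B) := by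
    ext x
    constructor
    · rintro ⟨v, hv, rfl⟩
      exact ⟨_, hv, by rw [← Scheme.Hom.comp_apply, pullback.condition, Scheme.Hom.comp_apply]⟩
    · rintro ⟨r, hr, hrx⟩
      obtain ⟨v, hv1, hv2⟩ := Scheme.Pullback.exists_preimage_pullback r x hrx
      exact ⟨v, by simpa [Set.mem_preimage, hv1] using hr, hv2⟩
  rw [this]
  exact (ht B hB).preimage u.continuous

theorem exists_quotient [IsImmersion u]
    (h1 : Mor2.IsFinLocFree (σ G u) ∧ Surjective (σ G u))
    (h2 : ∀ E : Set U', (∀ x ∈ E, ∀ y ∈ E, ∃ r : G.R, G.t.base r = u.base x ∧ G.s.base r = u.base y) →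
      ∃ W : U'.Opens, IsAffineOpen W ∧ E ⊆ (W : Set U')) :
    ∃ (Y : Scheme.{u}) (p : G.U ⟶ Y) (w : G.t ≫ p = G.s ≫ p),
      Nonempty (IsColimit (Cofork.ofπ p w)) ∧ Surjective p ∧
      (IsOpenMap G.t.base → IsOpenMap p.base) ∧ (UniversallyClosed G.t → UniversallyClosed p) ∧
      Function.Surjective (pullback.lift G.t G.s w).base ∧
      (Mono G.j → IsPullback G.t G.s p p ∧ (Flat G.t → Flat p)) := by
  obtain ⟨⟨hf₁, hf₂, hf₃⟩, hsurj⟩ := h1
  haveI : IsFinite (res' G u).s := MorphismProperty.pullback_snd (P := @IsFinite) (σ G u) u hf₁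
  haveI : Flat (res' G u).s := MorphismProperty.pullback_snd (P := @Flat) (σ G u) u hf₂
  haveI : LocallyOfFinitePresentation (res' G u).s :=
    MorphismProperty.pullback_snd (P := @LocallyOfFinitePresentation) (σ G u) u hf₃
  obtain ⟨Y, q, hq⟩ := exists_charted (res' G u) (orbitsAffine_res' G u h2)
  obtain ⟨_, _, _⟩ := t_props (res' G u)
  change U' ⟶ Y at q
  have hqw : s' G u ≫ q = t' G u ≫ q := hq.isQ.w
  have key : ∀ {T : Scheme.{u}} (a b : T ⟶ V G u), a ≫ σ G u = b ≫ σ G u →
      a ≫ pullback.snd G.t u ≫ q = b ≫ pullback.snd G.t u ≫ q := by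
    intro T a b hab
    let γ := mkR G u (mul G (a ≫ pullback.fst _ _) ((b ≫ pullback.fst _ _) ≫ G.i)
        (by rw [Category.assoc, Category.assoc, Category.assoc, G.i_t]; exact hab))
      (b ≫ pullback.snd _ _) (a ≫ pullback.snd _ _)
      (by rw [mul_s, Category.assoc, G.i_s, Category.assoc, Category.assoc, pullback.condition])
      (by rw [mul_t, Category.assoc, Category.assoc, pullback.condition])
    have h := congrArg (γ ≫ ·) hqw
    simp only [γ, reassoc_of% (mkR_s G u), reassoc_of% (mkR_t G u), Category.assoc] at h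
    exact h.symm
  haveI : Epi (σ G u) := Flat.epi_of_flat_of_surjective _
  let p : G.U ⟶ Y := EffectiveEpi.desc (σ G u) (pullback.snd G.t u ≫ q) fun g₁ g₂ h => key g₁ g₂ h
  have hp : σ G u ≫ p = pullback.snd G.t u ≫ q := EffectiveEpi.fac _ _ _
  have hup : u ≫ p = q := by
    let c : U' ⟶ V G u := pullback.lift (u ≫ G.e) (𝟙 _)
      (by rw [Category.assoc, G.e_t, Category.comp_id, Category.id_comp])
    have hc : c ≫ σ G u = u := by
      rw [σ, pullback.lift_fst_assoc, Category.assoc, G.e_s, Category.comp_id]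
    have h3 := congrArg (c ≫ ·) hp
    simp only [← Category.assoc, hc] at h3
    rwa [pullback.lift_snd, Category.id_comp] at h3
  have w : G.t ≫ p = G.s ≫ p := by
    let π := pullback.snd (σ G u) G.s
    let v := pullback.fst (σ G u) G.s
    haveI : Surjective π := MorphismProperty.pullback_snd _ _ hsurj
    haveI : Flat π := MorphismProperty.pullback_snd _ _ hf₂
    haveI : IsFinite π := MorphismProperty.pullback_snd _ _ hf₁
    haveI : Epi π := Flat.epi_of_flat_of_surjective _
    have hv : v ≫ σ G u = π ≫ G.s := pullback.condition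
    let v' : pullback (σ G u) G.s ⟶ V G u :=
      pullback.lift (mul G (v ≫ pullback.fst _ _) (π ≫ G.i)
          (by rw [Category.assoc, Category.assoc, G.i_t]; exact hv))
        (v ≫ pullback.snd _ _) (by rw [mul_t, Category.assoc, Category.assoc, pullback.condition])
    have hv' : v' ≫ σ G u = π ≫ G.t := by
      change v' ≫ pullback.fst G.t u ≫ G.s = π ≫ G.t
      rw [pullback.lift_fst_assoc, mul_s, Category.assoc, G.i_s]
    rw [← cancel_epi π, ← reassoc_of% hv', ← reassoc_of% hv, hp]
    rw [← Category.assoc, pullback.lift_snd, Category.assoc]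
  haveI : Surjective q := ⟨hq.isQ.surjective⟩
  have hmap : ∀ (P : MorphismProperty Scheme.{u}) [P.IsStableUnderBaseChange] [P.IsStableUnderComposition],
      P (σ G u) → P (pullback.map (σ G u ≫ p) (σ G u ≫ p) p p (σ G u) (σ G u) (𝟙 Y) (by simp) (by simp)) :=
    fun P _ _ h => MorphismProperty.pullbackMap h h rfl rfl
  refine ⟨Y, p, w, ⟨Cofork.IsColimit.mk _ (fun c => hq.isQ.desc (u ≫ c.π) ?_) (fun c => ?_) ?_⟩, ?_,
    fun ht O hO => ?_, fun ht => ?_, ?_, fun hm => ⟨?_, fun ht => ?_⟩⟩
  · change s' G u ≫ u ≫ c.π = t' G u ≫ u ≫ c.π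
    rw [← reassoc_of% (ρ_s G u), ← reassoc_of% (ρ_t G u), c.condition]
  · rw [Cofork.π_ofπ, ← cancel_epi (σ G u), reassoc_of% hp, hq.isQ.fac, ← pullback.condition_assoc, c.condition]
    exact (Category.assoc _ _ _).symm
  · intro c m hm
    refine hq.isQ.hom_ext ((?_ : q ≫ m = u ≫ c.π).trans (hq.isQ.fac _ _).symm)
    rw [← hup, Category.assoc]
    exact congrArg (u ≫ ·) hm
  · haveI : Surjective (u ≫ p) := by rw [hup]; infer_instance
    exact Surjective.of_comp u p
  · have e : p.base '' O = q.base '' ((pullback.snd G.t u).base '' ((σ G u).base ⁻¹' O)) := by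
      ext y
      constructor
      · rintro ⟨x, hx, rfl⟩
        obtain ⟨v, rfl⟩ := (σ G u).surjective x
        exact ⟨_, ⟨v, hx, rfl⟩, by rw [← Scheme.Hom.comp_apply, ← hp, Scheme.Hom.comp_apply]⟩
      · rintro ⟨_, ⟨v, hv, rfl⟩, rfl⟩
        exact ⟨σ G u v, hv, by rw [← Scheme.Hom.comp_apply, hp, Scheme.Hom.comp_apply]⟩
    rw [e]
    exact hq.isQ.isOpenMap (res' G u).t.isOpenMap _ (isOpenMap_snd G u ht _ (hO.preimage (σ G u).continuous))
  · haveI : IsIntegralHom q := hq.isQ.integral
    haveI : UniversallyClosed (pullback.snd G.t u) := MorphismProperty.pullback_snd _ _ ht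
    haveI : UniversallyClosed (σ G u ≫ p) := by rw [hp]; infer_instance
    exact UniversallyClosed.of_comp_surjective (σ G u) p
  · intro z
    haveI : Surjective (pullback.map (σ G u ≫ p) (σ G u ≫ p) p p (σ G u) (σ G u) (𝟙 Y) (by simp) (by simp)) :=
      hmap @Surjective hsurj
    obtain ⟨y, rfl⟩ := (pullback.map (σ G u ≫ p) (σ G u ≫ p) p p (σ G u) (σ G u) (𝟙 Y) _ _).surjective z
    let a := pullback.fst (σ G u ≫ p) (σ G u ≫ p)
    let b := pullback.snd (σ G u ≫ p) (σ G u ≫ p)
    have hab : (a ≫ pullback.snd G.t u) ≫ q = (b ≫ pullback.snd G.t u) ≫ q := by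
      rw [Category.assoc, Category.assoc, ← hp]; exact pullback.condition
    let m : pullback (σ G u ≫ p) (σ G u ≫ p) ⟶ pullback q q := pullback.lift _ _ hab
    let Λ : R' G u ⟶ pullback q q := pullback.lift (t' G u) (s' G u) hqw.symm
    haveI : Surjective Λ := ⟨hq.surjective_lift⟩
    haveI : Surjective (pullback.snd Λ m) := MorphismProperty.pullback_snd _ _ ‹_›
    obtain ⟨x, rfl⟩ := (pullback.snd Λ m).surjective y
    let r := pullback.fst Λ m ≫ ρ G u
    let va := pullback.snd Λ m ≫ a ≫ pullback.fst G.t u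
    let vb := pullback.snd Λ m ≫ b ≫ pullback.fst G.t u
    have e1 := congrArg (· ≫ pullback.fst q q) (pullback.condition (f := Λ) (g := m))
    have e2 := congrArg (· ≫ pullback.snd q q) (pullback.condition (f := Λ) (g := m))
    simp only [Λ, m, Category.assoc, pullback.lift_fst, pullback.lift_snd] at e1 e2
    have k1 : (va ≫ G.i) ≫ G.s = r ≫ G.t := by
      simp only [va, r, Category.assoc, G.i_s, ρ_t, pullback.condition]
      rw [reassoc_of% e1]
    have k2 : r ≫ G.s = vb ≫ G.t := by
      simp only [vb, r, Category.assoc, ρ_s, pullback.condition]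
      rw [reassoc_of% e2]
    let ε := mul G (mul G (va ≫ G.i) r k1) vb (by rw [mul_s]; exact k2)
    refine ⟨ε x, ?_⟩
    rw [← Scheme.Hom.comp_apply, ← Scheme.Hom.comp_apply]
    refine congrArg (fun k : _ ⟶ pullback p p => k x) ?_
    apply pullback.hom_ext
    · simp only [ε, va, a, Category.assoc, pullback.lift_fst, mul_t, G.i_t, σ]
    · simp only [ε, vb, b, Category.assoc, pullback.lift_snd, mul_s, σ]
  · haveI := mono_j_res' G u
    have hpb : IsPullback (t' G u) (s' G u) q q := hq.isPullback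
    let a := pullback.fst (σ G u ≫ p) (σ G u ≫ p)
    let b := pullback.snd (σ G u ≫ p) (σ G u ≫ p)
    have hab : (a ≫ pullback.snd G.t u) ≫ q = (b ≫ pullback.snd G.t u) ≫ q := by
      simp only [a, b, Category.assoc, ← hp]; exact pullback.condition
    let r := hpb.lift _ _ hab ≫ ρ G u
    let va := a ≫ pullback.fst G.t u
    let vb := b ≫ pullback.fst G.t u
    have k1 : (va ≫ G.i) ≫ G.s = r ≫ G.t := by
      simp only [va, r, Category.assoc, G.i_s, ρ_t, pullback.condition, IsPullback.lift_fst_assoc]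
    have k2 : r ≫ G.s = vb ≫ G.t := by
      simp only [vb, r, Category.assoc, ρ_s, pullback.condition, IsPullback.lift_snd_assoc]
    let ε := mul G (mul G (va ≫ G.i) r k1) vb (by rw [mul_s]; exact k2)
    let m : G.R ⟶ pullback p p := pullback.lift G.t G.s w
    haveI : Mono m := by
      refine ⟨fun {T} α β h => ?_⟩
      rw [← cancel_mono G.j]
      have e1 := congrArg (· ≫ pullback.fst p p) h
      have e2 := congrArg (· ≫ pullback.snd p p) h
      simp only [m, Category.assoc, pullback.lift_fst, pullback.lift_snd] at e1 e2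
      apply pullback.hom_ext <;>
        simp only [Grpd.GroupoidScheme.j, Category.assoc, pullback.lift_fst, pullback.lift_snd, e1, e2]
    let Φ := pullback.map (σ G u ≫ p) (σ G u ≫ p) p p (σ G u) (σ G u) (𝟙 Y) (by simp) (by simp)
    have hε : ε ≫ m = Φ := by
      apply pullback.hom_ext
      · simp only [m, Φ, ε, va, a, Category.assoc, pullback.lift_fst, mul_t, G.i_t, σ]
      · simp only [m, Φ, ε, vb, b, Category.assoc, pullback.lift_snd, mul_s, σ]
    have hiso : IsIso (pullback.fst Φ m) := by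
      refine ⟨pullback.lift (𝟙 _) ε (by rw [hε, Category.id_comp]), ?_, pullback.lift_fst _ _ _⟩
      refine (cancel_mono (pullback.fst Φ m)).1 ?_
      simp only [Category.assoc, pullback.lift_fst, Category.comp_id, Category.id_comp]
    have hΦ : (@Surjective ⊓ @Flat ⊓ @QuasiCompact : MorphismProperty Scheme.{u}) Φ :=
      ⟨⟨hmap @Surjective hsurj, hmap @Flat hf₂⟩, hmap @QuasiCompact inferInstance⟩
    have hm' : MorphismProperty.isomorphisms Scheme.{u} m :=
      MorphismProperty.of_pullback_fst_of_descendsAlong hΦ hiso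
    haveI : IsIso m := hm'
    exact IsPullback.of_iso_pullback ⟨w⟩ (asIso m) (pullback.lift_fst _ _ _) (pullback.lift_snd _ _ _)
  · haveI := mono_j_res' G u
    haveI : Flat q := hq.isFinLocFree.2.1
    haveI : Flat (pullback.snd G.t u) := MorphismProperty.pullback_snd _ _ ht
    haveI : Flat (σ G u ≫ p) := by rw [hp]; infer_instance
    exact Groth.Agent.FlatDescStalk.flat_of_comp (σ G u) p

end Groth.Agent.QuasiSecLib
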