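import Mathlib
import Groth.Prelude.Def_CAlg2

/-!
# Going down for quasi-finite points over unibranch points
-/

set_option autoImplicit false
set_option linter.style.haveILetI false
set_option maxHeartbeats 1000000

universe u

namespace Groth.Agent.QuasiSecLib

/-- Over a unibranch point, the primes of the normalisation are unique. -/
theorem prime_over_unique {A S K : Type u} [CommRing A] [IsDomain A] [CommRing S] [Field K] [Algebra A S] [Algebra A K]
    [Algebra S K] [IsScalarTower A S K] [IsFractionRing A K] (p : Ideal A) [p.IsPrime] [IsLocalization.AtPrime S p]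
    [IsLocalRing (integralClosure S K)] (P₁ P₂ : Ideal (integralClosure A K)) [P₁.IsPrime] [P₂.IsPrime]
    (h₁ : P₁.comap (algebraMap A (integralClosure A K)) = p)
    (h₂ : P₂.comap (algebraMap A (integralClosure A K)) = p) : P₁ ≤ P₂ := by
  classical
  let i : integralClosure A K →+* integralClosure S K :=
    (integralClosure A K).val.toRingHom.codRestrict (integralClosure S K).toSubring fun x => IsIntegral.tower_top x.2
  have hi : ∀ (P : Ideal (integralClosure A K)) [P.IsPrime], P.comap (algebraMap A (integralClosure A K)) = p →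
      ∀ x ∈ P, ¬ IsUnit (i x) := by
    intro P _ hP x hx hu
    obtain ⟨y, hy⟩ := hu.exists_right_inv
    obtain ⟨⟨s, hs⟩, hsy⟩ := IsIntegral.exists_multiple_integral_of_isLocalization p.primeCompl (y : K) y.2
    have h : x * (⟨s • (y : K), hsy⟩ : integralClosure A K) = algebraMap A _ s := by
      refine Subtype.ext ?_
      have h1 : (x : K) * (y : K) = 1 := congrArg Subtype.val hy
      show (x : K) * (s • (y : K)) = algebraMap A K s
      rw [mul_smul_comm, h1, Algebra.algebraMap_eq_smul_one]
    exact hs (by
      rw [SetLike.mem_coe, ← hP, Ideal.mem_comap, ← h]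
      exact P.mul_mem_right _ hx)
  intro x hx₁
  by_contra hx₂
  let D := integralClosure A K ⧸ P₂
  have hx0 : Ideal.Quotient.mk P₂ x ≠ 0 := fun h => hx₂ (Ideal.Quotient.eq_zero_iff_mem.1 h)
  obtain ⟨f, hf, hfx⟩ : IsIntegral A (Ideal.Quotient.mkₐ A P₂ x) :=
    (Algebra.IsIntegral.isIntegral (R := A) x).map _
  obtain ⟨g, hg, hg0⟩ : ∃ g : Polynomial A, Polynomial.aeval (Ideal.Quotient.mkₐ A P₂ x) g = 0 ∧ g.coeff 0 ∉ p := by
    by_contra hno
    push Not at hno
    have key : ∀ n (g : Polynomial A), g.natDegree ≤ n → Polynomial.aeval (Ideal.Quotient.mkₐ A P₂ x) g = 0 →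
        ∀ k, g.coeff k ∈ p := by
      intro n
      induction n with
      | zero =>
        intro g hg h0 k
        rcases k with _ | k
        · exact hno g h0
        · rw [Polynomial.coeff_eq_zero_of_natDegree_lt (by omega)]
          exact zero_mem _
      | succ n ih =>
        intro g hg h0
        have h00 := hno g h0
        have hdiv : Polynomial.aeval (Ideal.Quotient.mkₐ A P₂ x) g.divX = 0 := by
          have e := congrArg (Polynomial.aeval (Ideal.Quotient.mkₐ A P₂ x)) (Polynomial.X_mul_divX_add g)
          have hc0 : algebraMap A D (g.coeff 0) = 0 := by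
            show Ideal.Quotient.mk P₂ (algebraMap A _ (g.coeff 0)) = 0
            rw [Ideal.Quotient.eq_zero_iff_mem, ← Ideal.mem_comap, h₂]
            exact h00
          rw [map_add, map_mul, Polynomial.aeval_X, Polynomial.aeval_C, hc0, add_zero, h0] at e
          exact (mul_eq_zero.1 e).resolve_left hx0
        intro k
        rcases k with _ | k
        · exact h00
        · rw [← Polynomial.coeff_divX]
          exact ih g.divX (by rw [Polynomial.natDegree_divX_eq_natDegree_tsub_one]; omega) hdiv k
    have hlead := key f.natDegree f le_rfl hfx f.natDegree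
    rw [hf.coeff_natDegree] at hlead
    exact Ideal.IsPrime.ne_top inferInstance ((Ideal.eq_top_iff_one p).2 hlead)
  let z : integralClosure A K := Polynomial.aeval x g.divX
  have hmem : x * z + algebraMap A _ (g.coeff 0) ∈ P₂ := by
    have e : Polynomial.aeval x g = x * z + algebraMap A _ (g.coeff 0) := by
      conv_lhs => rw [← Polynomial.X_mul_divX_add g]
      rw [map_add, map_mul, Polynomial.aeval_X, Polynomial.aeval_C]
    rw [← e, ← Ideal.Quotient.eq_zero_iff_mem, ← Ideal.Quotient.mkₐ_eq_mk A, ← Polynomial.aeval_algHom_apply]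
    exact hg
  have hu : IsUnit (i (algebraMap A _ (g.coeff 0))) := by
    have : i (algebraMap A _ (g.coeff 0)) = algebraMap S (integralClosure S K) (algebraMap A S (g.coeff 0)) :=
      Subtype.ext (IsScalarTower.algebraMap_apply A S K _)
    rw [this]
    exact (IsLocalization.map_units S (⟨g.coeff 0, hg0⟩ : p.primeCompl)).map _
  have hxz : i (x * z) ∈ nonunits _ := hi P₁ h₁ _ (P₁.mul_mem_right _ hx₁)
  have hsum : i (x * z + algebraMap A _ (g.coeff 0)) ∈ nonunits _ := hi P₂ h₂ _ hmem
  rw [map_add] at hsum
  refine (IsLocalRing.maximalIdeal.isMaximal _).ne_top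
    (Ideal.eq_top_of_isUnit_mem (IsLocalRing.maximalIdeal (integralClosure S K)) ?_ hu)
  simpa using Ideal.sub_mem _ (show i (x * z) + i (algebraMap A _ (g.coeff 0)) ∈ IsLocalRing.maximalIdeal _ from hsum)
    (show i (x * z) ∈ IsLocalRing.maximalIdeal _ from hxz)

/-- Primes under a quasi-finite point over a unibranch point lift. -/
theorem exists_le_comap_eq {A B S K : Type u} [CommRing A] [IsDomain A] [CommRing B] [IsDomain B] [Algebra A B]
    [Algebra.FiniteType A B] [CommRing S] [Field K] [Algebra A S] [Algebra A K]
    [Algebra S K] [IsScalarTower A S K] [IsFractionRing A K] (hinj : Function.Injective (algebraMap A B))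
    (q : Ideal B) [q.IsPrime] [Algebra.QuasiFiniteAt A q] [IsLocalization.AtPrime S (q.comap (algebraMap A B))]
    [IsLocalRing (integralClosure S K)] (p' : Ideal A) [p'.IsPrime] (hp' : p' ≤ q.comap (algebraMap A B)) :
    ∃ q' : Ideal B, q'.IsPrime ∧ q' ≤ q ∧ q'.comap (algebraMap A B) = p' := by
  classical
  let L := FractionRing B
  let A' := integralClosure A K
  haveI : IsIntegrallyClosed A' := integralClosure.isIntegrallyClosedOfFiniteExtension K
  have hAL : Function.Injective ((algebraMap B L).comp (algebraMap A B)) := (IsFractionRing.injective B L).comp hinj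
  let kL : K →+* L := IsFractionRing.lift hAL
  letI : Algebra A' L := (kL.comp A'.val.toRingHom).toAlgebra
  haveI : IsScalarTower A A' L := .of_algebraMap_eq fun a => by
    show _ = kL (algebraMap A K a)
    rw [IsFractionRing.lift_algebraMap]
    exact IsScalarTower.algebraMap_apply A B L a
  haveI : FaithfulSMul A' L := (faithfulSMul_iff_algebraMap_injective _ _).2
    (kL.injective.comp Subtype.val_injective)
  let N : Subalgebra A' L := integralClosure A' L
  haveI : FaithfulSMul A' N :=
    (faithfulSMul_iff_algebraMap_injective _ _).2 fun x y h => (FaithfulSMul.algebraMap_injective A' L) (congrArg Subtype.val h)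
  haveI : Algebra.IsIntegral A' N := integralClosure.AlgebraIsIntegral
  haveI : Algebra.HasGoingDown A' N := inferInstance
  obtain ⟨r, hrq, hbij⟩ := Algebra.ZariskisMainProperty.of_finiteType (R := A) q
  let C := integralClosure A B
  let j : C →+* N := ((algebraMap B L).comp C.val.toRingHom).codRestrict N.toSubring fun c => by
    show IsIntegral A' (algebraMap B L c.1)
    exact ((c.2 : IsIntegral A c.1).algebraMap (B := L)).tower_top
  have hj : Function.Injective j := fun a b h => Subtype.ext (IsFractionRing.injective B L (congrArg Subtype.val h))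
  letI : Algebra C N := j.toAlgebra
  haveI : IsScalarTower A C N := .of_algebraMap_eq fun z => Subtype.ext (by
    show ((algebraMap A N z : N) : L) = algebraMap B L (algebraMap A B z)
    rw [← IsScalarTower.algebraMap_apply A B L]
    rfl)
  haveI : Algebra.IsIntegral A A' := integralClosure.AlgebraIsIntegral
  haveI : Algebra.IsIntegral A N := Algebra.IsIntegral.trans A'
  haveI : Algebra.IsIntegral C N := ⟨fun x => (Algebra.IsIntegral.isIntegral (R := A) x).tower_top⟩
  obtain ⟨Q, -, hQp, hQ⟩ := Ideal.exists_ideal_over_prime_of_isIntegral (q.comap C.val.toRingHom) (⊥ : Ideal N) (by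
    show Ideal.comap j ⊥ ≤ _
    rw [Ideal.comap_bot_of_injective _ hj]; exact bot_le)
  let P := Q.comap (algebraMap A' N)
  have hP : P.comap (algebraMap A A') = q.comap (algebraMap A B) := by
    rw [Ideal.comap_comap, ← IsScalarTower.algebraMap_eq, IsScalarTower.algebraMap_eq A C N, ← Ideal.comap_comap, hQ,
      Ideal.comap_comap]
    rfl
  obtain ⟨P₀, -, hP₀p, hP₀⟩ := Ideal.exists_ideal_over_prime_of_isIntegral p' (⊥ : Ideal A') (by
    rw [Ideal.comap_bot_of_injective (algebraMap A A') fun a b h => IsFractionRing.injective A K (congrArg Subtype.val h)]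
    exact bot_le)
  obtain ⟨P₁, hP₀₁, hP₁p, hP₁⟩ := Ideal.exists_ideal_over_prime_of_isIntegral (q.comap (algebraMap A B)) P₀
    (hP₀.trans_le hp')
  haveI := hQp
  haveI := hP₀p
  haveI := hP₁p
  haveI : P.IsPrime := Ideal.IsPrime.comap _
  have hle : P₀ ≤ P := hP₀₁.trans (prime_over_unique (S := S) (q.comap (algebraMap A B)) P₁ P hP₁ hP)
  haveI : Q.LiesOver P := ⟨rfl⟩
  obtain ⟨Q', hQ'le, hQ'p, hQ'⟩ := Ideal.exists_ideal_le_liesOver_of_le (p := P₀) (q := P) Q hle
  haveI := hQ'p
  let c := Q'.comap (algebraMap C N)
  haveI : c.IsPrime := Ideal.IsPrime.comap _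
  have hcq : c ≤ q.comap C.val.toRingHom := (Ideal.comap_mono hQ'le).trans hQ.le
  have hcA : c.comap (algebraMap A C) = p' := by
    rw [Ideal.comap_comap, ← IsScalarTower.algebraMap_eq, IsScalarTower.algebraMap_eq A A' N, ← Ideal.comap_comap]
    rw [show Q'.comap (algebraMap A' N) = P₀ from hQ'.over.symm, hP₀]
  have hdisj : Disjoint (Submonoid.powers r : Set C) (c : Set C) := by
    rw [Set.disjoint_left]
    rintro _ ⟨n, rfl⟩ hr
    exact hrq (hcq (Ideal.IsPrime.mem_of_pow_mem inferInstance n hr))
  let cr := c.map (algebraMap C (Localization.Away r))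
  haveI : cr.IsPrime := IsLocalization.isPrime_of_isPrime_disjoint (Submonoid.powers r) _ c inferInstance hdisj
  have hcr : cr.comap (algebraMap C (Localization.Away r)) = c :=
    IsLocalization.comap_map_of_isPrime_disjoint (Submonoid.powers r) _ inferInstance hdisj
  let φ := RingEquiv.ofBijective (Localization.awayMap C.val.toRingHom r) hbij
  have hφ : ∀ x, φ (algebraMap C (Localization.Away r) x) = algebraMap B (Localization.Away (C.val r)) (C.val x) := by
    intro x
    show Localization.awayMap C.val.toRingHom r (algebraMap C (Localization.Away r) x) = _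
    simp only [Localization.awayMap, IsLocalization.Away.map]
    exact IsLocalization.map_eq _ x
  let q' := (cr.comap φ.symm.toRingHom).comap (algebraMap B (Localization.Away (C.val r)))
  haveI : q'.IsPrime := Ideal.IsPrime.comap _
  have hq'C : q'.comap C.val.toRingHom = c := by
    rw [← hcr]
    ext x
    simp only [q', Ideal.mem_comap]
    have : φ (algebraMap C (Localization.Away r) x) = algebraMap B (Localization.Away (C.val r)) (C.val x) :=
      hφ x
    show φ.symm (algebraMap B (Localization.Away (C.val r)) (C.val x)) ∈ cr ↔ _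
    rw [← this, φ.symm_apply_apply]
  refine ⟨q', inferInstance, fun b hb => ?_, ?_⟩
  · obtain ⟨⟨a, _, n, rfl⟩, ha⟩ := IsLocalization.surj (Submonoid.powers r) (φ.symm (algebraMap B (Localization.Away (C.val r)) b))
    have h1 := congrArg φ ha
    rw [map_mul, φ.apply_symm_apply,
      hφ, hφ,
      ← map_mul] at h1
    obtain ⟨⟨_, m, rfl⟩, hm⟩ := (IsLocalization.eq_iff_exists (Submonoid.powers (C.val r)) _).1 h1
    have ha' : a ∈ c := by
      rw [← hcr, Ideal.mem_comap]
      show algebraMap C (Localization.Away r) a ∈ cr
      rw [← ha]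
      exact cr.mul_mem_right _ hb
    have hin : C.val a ∈ q := hcq ha'
    have : C.val r ^ m * (b * C.val (r ^ n)) ∈ q := hm ▸ q.mul_mem_left _ hin
    have hrq' : C.val r ∉ q := hrq
    rcases Ideal.IsPrime.mem_or_mem inferInstance this with h | h
    · exact absurd (Ideal.IsPrime.mem_of_pow_mem inferInstance m h) hrq'
    · refine (Ideal.IsPrime.mem_or_mem inferInstance h).resolve_right fun h => hrq' ?_
      rw [map_pow] at h
      exact Ideal.IsPrime.mem_of_pow_mem inferInstance n h
  · rw [show algebraMap A B = C.val.toRingHom.comp (algebraMap A C) from rfl, ← Ideal.comap_comap, hq'C, hcA]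

end Groth.Agent.QuasiSecLib
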