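import Mathlib
import Groth.Prelude.Def_CAlg2
import Groth.Agent.QuasiSecLib.Unibranch

/-!
# Going down at quasi-finite points over unibranch points, non-reduced rings
-/

set_option autoImplicit false
set_option linter.style.haveILetI false
set_option maxHeartbeats 1000000

universe u

namespace Groth.Agent.QuasiSecLib

/-- The reduction of a localisation is the localisation of the reduction. -/
theorem isLocalization_red {A S₀ : Type u} [CommRing A] [CommRing S₀] [Algebra A S₀] (p : Ideal A) [p.IsPrime]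
    [IsLocalization.AtPrime S₀ p] (p₁ : Ideal (A ⧸ nilradical A)) [p₁.IsPrime]
    (hp₁ : p₁.comap (Ideal.Quotient.mk _) = p) [Algebra (A ⧸ nilradical A) (CAlg2.red S₀)]
    (h : ∀ a, algebraMap (A ⧸ nilradical A) (CAlg2.red S₀) (Ideal.Quotient.mk _ a) =
      Ideal.Quotient.mk _ (algebraMap A S₀ a)) :
    IsLocalization.AtPrime (CAlg2.red S₀) p₁ := by
  have hmem : ∀ a, Ideal.Quotient.mk _ a ∈ p₁ ↔ a ∈ p := fun a => by rw [← hp₁]; rfl
  refine (isLocalization_iff _ _).2 ⟨?_, ?_, ?_⟩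
  · rintro ⟨s, hs⟩
    obtain ⟨s, rfl⟩ := Ideal.Quotient.mk_surjective s
    show IsUnit (algebraMap _ (CAlg2.red S₀) (Ideal.Quotient.mk _ s))
    rw [h]
    exact (IsLocalization.map_units S₀ (⟨s, fun hh => hs ((hmem s).2 hh)⟩ : p.primeCompl)).map _
  · intro z
    obtain ⟨z, rfl⟩ := Ideal.Quotient.mk_surjective z
    obtain ⟨⟨a, s⟩, hz⟩ := IsLocalization.surj p.primeCompl z
    refine ⟨⟨Ideal.Quotient.mk _ a, ⟨Ideal.Quotient.mk _ (s : A), fun hh => s.2 ((hmem _).1 hh)⟩⟩, ?_⟩
    show Ideal.Quotient.mk _ z * algebraMap _ _ (Ideal.Quotient.mk _ (s : A)) = algebraMap _ _ (Ideal.Quotient.mk _ a)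
    rw [h, h, ← map_mul, hz]
  · intro x y hxy
    obtain ⟨a, rfl⟩ := Ideal.Quotient.mk_surjective x
    obtain ⟨b, rfl⟩ := Ideal.Quotient.mk_surjective y
    rw [h, h, Ideal.Quotient.eq, ← map_sub] at hxy
    obtain ⟨n, hn⟩ := hxy
    rw [← map_pow, Ideal.zero_eq_bot, Ideal.mem_bot, IsLocalization.map_eq_zero_iff p.primeCompl] at hn
    obtain ⟨t, ht⟩ := hn
    refine ⟨⟨Ideal.Quotient.mk _ (t : A), fun hh => t.2 ((hmem _).1 hh)⟩, ?_⟩
    show Ideal.Quotient.mk _ (t : A) * Ideal.Quotient.mk _ a = Ideal.Quotient.mk _ (t : A) * Ideal.Quotient.mk _ b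
    rw [← map_mul, ← map_mul, Ideal.Quotient.eq, ← mul_sub]
    refine ⟨n + 1, ?_⟩
    rw [mul_pow, pow_succ (t : A) n, pow_succ (_ - _) n,
      show (t : A) ^ n * t * ((a - b) ^ n * (a - b)) = (t * (a - b) ^ n) * ((t : A) ^ n * (a - b)) by ring, ht,
      zero_mul]
    exact zero_mem _

/-- Primes under a quasi-finite point over a unibranch point lift (irreducible spectra, dominant). -/
theorem exists_le_comap_eq_of_isUnibranch {A B S₀ : Type u} [CommRing A] [CommRing B] [Algebra A B]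
    [Algebra.FiniteType A B] [Algebra.QuasiFinite A B] [CommRing S₀] [IsLocalRing S₀] [Algebra A S₀]
    [hA : (nilradical A).IsPrime] [hB : (nilradical B).IsPrime]
    (hdom : (nilradical B).comap (algebraMap A B) = nilradical A)
    (q : Ideal B) [q.IsPrime] [IsLocalization.AtPrime S₀ (q.comap (algebraMap A B))]
    (hu : CAlg2.IsUnibranch S₀) (p' : Ideal A) [p'.IsPrime] (hp' : p' ≤ q.comap (algebraMap A B)) :
    ∃ q' : Ideal B, q'.IsPrime ∧ q' ≤ q ∧ q'.comap (algebraMap A B) = p' := by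
  obtain ⟨hdS, hloc⟩ := hu
  letI : Algebra (A ⧸ nilradical A) (B ⧸ nilradical B) :=
    (Ideal.quotientMap (nilradical B) (algebraMap A B) hdom.ge).toAlgebra
  haveI : IsScalarTower A (A ⧸ nilradical A) (B ⧸ nilradical B) := .of_algebraMap_eq fun _ => rfl
  haveI : Algebra.FiniteType A (B ⧸ nilradical B) :=
    Algebra.FiniteType.of_surjective (Ideal.Quotient.mkₐ A _) (Ideal.Quotient.mkₐ_surjective A _)
  haveI : Algebra.FiniteType (A ⧸ nilradical A) (B ⧸ nilradical B) :=
    Algebra.FiniteType.of_restrictScalars_finiteType A _ _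
  haveI : Algebra.QuasiFinite A (B ⧸ nilradical B) := inferInstance
  haveI : Algebra.QuasiFinite (A ⧸ nilradical A) (B ⧸ nilradical B) :=
    Algebra.QuasiFinite.of_restrictScalars A _ _
  have hinj : Function.Injective (algebraMap (A ⧸ nilradical A) (B ⧸ nilradical B)) :=
    Ideal.quotientMap_injective' hdom.le
  letI : Algebra (A ⧸ nilradical A) (CAlg2.red S₀) :=
    (Ideal.quotientMap (nilradical S₀) (algebraMap A S₀) fun a ha => (ha : IsNilpotent a).map _).toAlgebra
  let q₁ := q.map (Ideal.Quotient.mk (nilradical B))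
  have hker : ∀ (R : Type u) [CommRing R] (I : Ideal R) [I.IsPrime],
      (I.map (Ideal.Quotient.mk (nilradical R))).IsPrime ∧
      (I.map (Ideal.Quotient.mk (nilradical R))).comap (Ideal.Quotient.mk (nilradical R)) = I := by
    intro R _ I _
    refine ⟨Ideal.map_isPrime_of_surjective Ideal.Quotient.mk_surjective
      (by rw [Ideal.mk_ker]; exact nilradical_le_prime I), ?_⟩
    rw [Ideal.comap_map_mk (nilradical_le_prime I)]
  haveI : q₁.IsPrime := (hker B q).1
  let p₁ := q₁.comap (algebraMap (A ⧸ nilradical A) (B ⧸ nilradical B))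
  haveI : p₁.IsPrime := Ideal.IsPrime.comap _
  have hp₁ : p₁.comap (Ideal.Quotient.mk _) = q.comap (algebraMap A B) := by
    conv_rhs => rw [← (hker B q).2]
    rfl
  haveI : IsLocalization.AtPrime (CAlg2.red S₀) p₁ := isLocalization_red _ p₁ hp₁ fun a => rfl
  let K := FractionRing (CAlg2.red S₀)
  haveI := hdS
  haveI : FaithfulSMul (A ⧸ nilradical A) K := (faithfulSMul_iff_algebraMap_injective _ _).2 (by
    rw [IsScalarTower.algebraMap_eq (A ⧸ nilradical A) (CAlg2.red S₀) K, RingHom.coe_comp]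
    exact (IsFractionRing.injective _ K).comp
      (IsLocalization.injective (CAlg2.red S₀) p₁.primeCompl_le_nonZeroDivisors))
  haveI : IsFractionRing (A ⧸ nilradical A) K := IsFractionRing.of_field _ K fun z => by
    obtain ⟨s, t, -, rfl⟩ := IsFractionRing.div_surjective (A := CAlg2.red S₀) z
    obtain ⟨⟨a, u⟩, ha⟩ := IsLocalization.surj p₁.primeCompl s
    obtain ⟨⟨b, v⟩, hb⟩ := IsLocalization.surj p₁.primeCompl t
    refine ⟨a * v, u * b, ?_⟩
    have ha' := congrArg (algebraMap (CAlg2.red S₀) K) ha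
    have hb' := congrArg (algebraMap (CAlg2.red S₀) K) hb
    rw [map_mul, ← IsScalarTower.algebraMap_apply, ← IsScalarTower.algebraMap_apply] at ha' hb'
    have hu0 : ∀ w : p₁.primeCompl, algebraMap (A ⧸ nilradical A) K w ≠ 0 := fun w => by
      rw [Ne, FaithfulSMul.algebraMap_eq_zero_iff]
      exact fun h0 => w.2 (h0 ▸ zero_mem _)
    rw [map_mul, map_mul, ← ha', ← hb']
    have hr : ∀ x y c d : K, c ≠ 0 → d ≠ 0 → x / y = x * c * d / (c * (y * d)) := fun x y c d hc hd => by
      rw [show x * c * d = x * (c * d) by ring, show c * (y * d) = y * (c * d) by ring,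
        mul_div_mul_right _ _ (mul_ne_zero hc hd)]
    exact hr _ _ _ _ (hu0 u) (hu0 v)
  let p'₁ := p'.map (Ideal.Quotient.mk (nilradical A))
  haveI : p'₁.IsPrime := (hker A p').1
  obtain ⟨q'₁, hq'p, hle, heq⟩ := exists_le_comap_eq (S := CAlg2.red S₀) (K := K) hinj q₁ p'₁ (by
    show p'₁ ≤ p₁
    rw [Ideal.map_le_iff_le_comap, hp₁]
    exact hp')
  refine ⟨q'₁.comap (Ideal.Quotient.mk _), Ideal.IsPrime.comap _, ?_, ?_⟩
  · conv_rhs => rw [← (hker B q).2]
    exact Ideal.comap_mono hle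
  · conv_rhs => rw [← (hker A p').2]
    show _ = p'₁.comap _
    rw [← heq]
    rfl

end Groth.Agent.QuasiSecLib
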